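import Cfsg.Agent.H518.SUAntiFin
import Cfsg.Agent.H965.ASRed

/-!
# Counting antiflags (helper479)
-/

set_option autoImplicit false
set_option linter.unusedSectionVars false

namespace Cfsg.Agent.H479.AS

open Module Matrix Cfsg.Agent.H518.SU

universe u v

/-- **Frames**: `AS2` by counting in a set of frames. -/
theorem of_frames {S : Type u} [Group S] {Ω : Type v} [Finite Ω] (s : Ω → S)
    (h : ∀ x : MulAut S, x ≠ 1 → ∃ B : Set Ω,
      (∀ ω, Group.IsSolvable (Subgroup.closure ({x, MulAut.conj (s ω)} : Set (MulAut S))) → ω ∈ B) ∧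
        2 * B.ncard < Nat.card Ω) : Cfsg.Agent.H965.AS.AS2 S := by
  classical
  intro a b ha hb
  by_contra hcon
  push Not at hcon
  obtain ⟨B, hB, hBc⟩ := h a ha
  obtain ⟨C, hC, hCc⟩ := h b hb
  have h1 : B ∪ C = Set.univ := by
    rw [Set.eq_univ_iff_forall]
    intro ω
    by_cases hω : Group.IsSolvable (Subgroup.closure ({a, MulAut.conj (s ω)} : Set (MulAut S)))
    · exact Or.inl (hB ω hω)
    · exact Or.inr (hC ω (hcon _ hω))
  have h2 := Set.ncard_union_le B C
  rw [h1, Set.ncard_univ] at h2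
  omega

theorem ncard_le_of_fiber {α β : Type*} [Finite α] [Finite β] (B : Set α) (g : α → β) (T : Set β) (m : ℕ)
    (hT : ∀ a ∈ B, g a ∈ T) (hm : ∀ b ∈ T, ({a | a ∈ B ∧ g a = b} : Set α).ncard ≤ m) :
    B.ncard ≤ m * T.ncard := by
  classical
  have := Fintype.ofFinite α
  have := Fintype.ofFinite β
  rw [Set.ncard_eq_toFinset_card' B, Set.ncard_eq_toFinset_card' T]
  refine Finset.card_le_mul_card_image_of_maps_to (f := g) (fun a ha => ?_) m fun b hb => ?_
  · rw [Set.mem_toFinset] at ha ⊢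
    exact hT a ha
  · rw [Set.mem_toFinset] at hb
    refine le_trans (le_of_eq ?_) (hm b hb)
    rw [Set.ncard_eq_toFinset_card']
    congr 1
    ext a
    simp

theorem le_ncard_of_fiber {α β : Type*} [Finite α] [Finite β] (B : Set α) (g : α → β) (T : Set β) (m : ℕ)
    (hT : ∀ a ∈ B, g a ∈ T) (hm : ∀ b ∈ T, m ≤ ({a | a ∈ B ∧ g a = b} : Set α).ncard) :
    m * T.ncard ≤ B.ncard := by
  classical
  have := Fintype.ofFinite α
  have := Fintype.ofFinite β
  rw [Set.ncard_eq_toFinset_card' B, Set.ncard_eq_toFinset_card' T]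
  refine Finset.mul_card_image_le_card_of_maps_to (f := g) (fun a ha => ?_) m fun b hb => ?_
  · rw [Set.mem_toFinset] at ha ⊢
    exact hT a ha
  · rw [Set.mem_toFinset] at hb
    refine le_trans (hm b hb) (le_of_eq ?_)
    rw [Set.ncard_eq_toFinset_card']
    congr 1
    ext a
    simp

section

variable {F : Type} [Field F] [Fintype F] {n : ℕ}

theorem finrank_ker_dl {a : Fin n → F} (ha : a ≠ 0) : finrank F (LinearMap.ker (dl a)) + 1 = n := by
  classical
  obtain ⟨i, hi⟩ : ∃ i, a i ≠ 0 := by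
    by_contra hcon
    push Not at hcon
    exact ha (funext hcon)
  have hv₁ : a ⬝ᵥ Pi.single i 1 ≠ 0 := by simpa using hi
  have h1 := LinearMap.finrank_range_add_finrank_ker (dl a)
  rw [finrank_fin_fun] at h1
  have h2 : LinearMap.range (dl a) = ⊤ := by
    rw [LinearMap.range_eq_top]
    intro t
    refine ⟨(t / (a ⬝ᵥ Pi.single i 1)) • Pi.single i 1, ?_⟩
    rw [dl_apply, dotProduct_smul, smul_eq_mul, div_mul_cancel₀ _ hv₁]
  rw [h2, finrank_top, finrank_self] at h1
  omega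

/-- the number of vectors off a hyperplane -/
theorem ncard_off {a : Fin n → F} (ha : a ≠ 0) :
    ({w | a ⬝ᵥ w ≠ 0} : Set (Fin n → F)).ncard = Fintype.card F ^ n - Fintype.card F ^ (n - 1) := by
  classical
  have h1 : ({w | a ⬝ᵥ w ≠ 0} : Set (Fin n → F)) = ((LinearMap.ker (dl a) : Submodule F (Fin n → F)) : Set _)ᶜ := by
    ext w
    simp only [Set.mem_ofPred_eq, Set.mem_compl_iff, SetLike.mem_coe, LinearMap.mem_ker, dl_apply, ne_eq]
  have h2 := Set.ncard_add_ncard_compl ((LinearMap.ker (dl a) : Submodule F (Fin n → F)) : Set (Fin n → F))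
  have h3 : (((LinearMap.ker (dl a) : Submodule F (Fin n → F)) : Set (Fin n → F))).ncard =
      Fintype.card F ^ (n - 1) := by
    have h4 := Module.natCard_eq_pow_finrank (K := F) (V := LinearMap.ker (dl a))
    have h5 := finrank_ker_dl ha
    rw [show finrank F (LinearMap.ker (dl a)) = n - 1 by omega, Nat.card_eq_fintype_card (α := F)] at h4
    exact h4
  have h4 : Nat.card (Fin n → F) = Fintype.card F ^ n := by
    rw [Module.natCard_eq_pow_finrank (K := F), Nat.card_eq_fintype_card, finrank_fin_fun]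
  rw [h1]
  omega

/-- antiflags: pairs of a vector `v` and a form `f` with `f v ≠ 0` -/
def AF (n : ℕ) (F : Type) [Field F] : Type := {p : (Fin n → F) × (Fin n → F) // p.2 ⬝ᵥ p.1 ≠ 0}

noncomputable instance finite_AF : Finite (AF n F) := by
  unfold AF
  infer_instance

theorem AF.v_ne (ω : AF n F) : ω.1.1 ≠ 0 := fun h => ω.2 (by rw [h, dotProduct_zero])

theorem AF.f_ne (ω : AF n F) : ω.1.2 ≠ 0 := fun h => ω.2 (by rw [h, zero_dotProduct])

theorem ncard_ne_zero : ({v | v ≠ 0} : Set (Fin n → F)).ncard = Fintype.card F ^ n - 1 := by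
  classical
  have h1 : ({v | v ≠ 0} : Set (Fin n → F)) = ({0} : Set (Fin n → F))ᶜ := by
    ext w
    simp
  have h2 := Set.ncard_add_ncard_compl ({0} : Set (Fin n → F))
  have h4 : Nat.card (Fin n → F) = Fintype.card F ^ n := by
    rw [Module.natCard_eq_pow_finrank (K := F), Nat.card_eq_fintype_card, finrank_fin_fun]
  rw [Set.ncard_singleton] at h2
  rw [h1]
  omega

theorem ncard_fiber_v {v : Fin n → F} (hv : v ≠ 0) :
    ({ω | ω.1.1 = v} : Set (AF n F)).ncard = Fintype.card F ^ n - Fintype.card F ^ (n - 1) := by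
  rw [← ncard_off hv]
  have h1 : (fun ω : AF n F => ω.1.2) '' {ω | ω.1.1 = v} = {w | v ⬝ᵥ w ≠ 0} := by
    ext f
    constructor
    · rintro ⟨ω, hω, rfl⟩
      have h2 := ω.2
      rw [show ω.1.1 = v from hω, dotProduct_comm] at h2
      exact h2
    · intro hf
      exact ⟨⟨(v, f), by rw [dotProduct_comm]; exact hf⟩, rfl, rfl⟩
  rw [← h1, Set.InjOn.ncard_image]
  intro a ha b hb hab
  exact Subtype.ext (Prod.ext ((show a.1.1 = v from ha).trans (show b.1.1 = v from hb).symm) hab)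

theorem ncard_fiber_f {f : Fin n → F} (hf : f ≠ 0) :
    ({ω | ω.1.2 = f} : Set (AF n F)).ncard = Fintype.card F ^ n - Fintype.card F ^ (n - 1) := by
  rw [← ncard_off hf]
  have h1 : (fun ω : AF n F => ω.1.1) '' {ω | ω.1.2 = f} = {w | f ⬝ᵥ w ≠ 0} := by
    ext v
    constructor
    · rintro ⟨ω, hω, rfl⟩
      have h2 := ω.2
      rw [show ω.1.2 = f from hω] at h2
      exact h2
    · intro hv
      exact ⟨⟨(v, f), hv⟩, rfl, rfl⟩
  rw [← h1, Set.InjOn.ncard_image]
  intro a ha b hb hab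
  exact Subtype.ext (Prod.ext hab ((show a.1.2 = f from ha).trans (show b.1.2 = f from hb).symm))

theorem card_AF : (Fintype.card F ^ n - Fintype.card F ^ (n - 1)) * (Fintype.card F ^ n - 1) ≤ Nat.card (AF n F) := by
  rw [← Set.ncard_univ, ← ncard_ne_zero]
  refine le_ncard_of_fiber Set.univ (fun ω : AF n F => ω.1.1) _ _ (fun ω _ => ω.v_ne) fun v hv => ?_
  rw [← ncard_fiber_v hv]
  apply le_of_eq
  congr 1
  ext ω
  simp

theorem ncard_B (V1 F1 : Set (Fin n → F)) :
    ({ω | ω.1.1 ∈ V1 ∨ ω.1.2 ∈ F1} : Set (AF n F)).ncard ≤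
      (Fintype.card F ^ n - Fintype.card F ^ (n - 1)) * (V1.ncard + F1.ncard) := by
  have h1 : ({ω | ω.1.1 ∈ V1 ∨ ω.1.2 ∈ F1} : Set (AF n F)) = {ω | ω.1.1 ∈ V1} ∪ {ω | ω.1.2 ∈ F1} := rfl
  rw [h1, Nat.mul_add]
  refine (Set.ncard_union_le _ _).trans (Nat.add_le_add ?_ ?_)
  · refine ncard_le_of_fiber _ (fun ω : AF n F => ω.1.1) _ _ (fun ω h => h) fun v hv => ?_
    by_cases h0 : v = 0
    · have h2 : ({a | a ∈ {ω : AF n F | ω.1.1 ∈ V1} ∧ a.1.1 = v} : Set (AF n F)) = ∅ := by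
        rw [Set.eq_empty_iff_forall_notMem]
        rintro ω ⟨-, h⟩
        exact ω.v_ne (h.trans h0)
      rw [h2, Set.ncard_empty]
      exact Nat.zero_le _
    · rw [← ncard_fiber_v h0]
      exact Set.ncard_le_ncard (fun ω h => h.2) (Set.toFinite _)
  · refine ncard_le_of_fiber _ (fun ω : AF n F => ω.1.2) _ _ (fun ω h => h) fun v hv => ?_
    by_cases h0 : v = 0
    · have h2 : ({a | a ∈ {ω : AF n F | ω.1.2 ∈ F1} ∧ a.1.2 = v} : Set (AF n F)) = ∅ := by
        rw [Set.eq_empty_iff_forall_notMem]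
        rintro ω ⟨-, h⟩
        exact ω.f_ne (h.trans h0)
      rw [h2, Set.ncard_empty]
      exact Nat.zero_le _
    · rw [← ncard_fiber_f h0]
      exact Set.ncard_le_ncard (fun ω h => h.2) (Set.toFinite _)

theorem ncard_C (X : (Fin n → F) → Set (Fin n → F)) (k : ℕ) (hX : ∀ f, (X f).ncard ≤ k) :
    ({ω | ω.1.1 ∈ X ω.1.2} : Set (AF n F)).ncard ≤ k * (Fintype.card F ^ n - 1) := by
  rw [← ncard_ne_zero]
  refine ncard_le_of_fiber _ (fun ω : AF n F => ω.1.2) _ _ (fun ω _ => ω.f_ne) fun f hf => ?_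
  refine le_trans ?_ (hX f)
  have h1 : (fun ω : AF n F => ω.1.1) '' {a | a ∈ {ω : AF n F | ω.1.1 ∈ X ω.1.2} ∧ a.1.2 = f} ⊆ X f := by
    rintro _ ⟨ω, ⟨h1, h2⟩, rfl⟩
    rw [← h2]
    exact h1
  refine le_trans (le_of_eq ?_) (Set.ncard_le_ncard h1 (Set.toFinite _))
  rw [Set.InjOn.ncard_image]
  intro a ha b hb hab
  exact Subtype.ext (Prod.ext hab ((show a.1.2 = f from ha.2).trans (show b.1.2 = f from hb.2).symm))

end

end Cfsg.Agent.H479.AS
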