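import Cfsg.Agent.H518.SUAnti

/-!
# Elements with a big eigenspace in solvable linear groups (helper479)
-/

set_option autoImplicit false
set_option linter.unusedSectionVars false

namespace Cfsg.Agent.H479.AS

open Module Cfsg.Agent.H518.DghpFix Cfsg.Agent.H518.DghpPrim Cfsg.Agent.H518.SU

universe u v w

section

variable {F : Type u} [Field F] [Fintype F] {U : Type v} [AddCommGroup U] [Module F U] [FiniteDimensional F U]
  {G : Type w} [Group G] [Finite G]

/-- In a solvable group containing an irreducible element `y` of large prime order `r`, the elements with an eigenspace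
of codimension `1` are scalar. -/
theorem scalar_of_big (φ : G →* (U →ₗ[F] U)) {M : Subgroup G} (hM : Group.IsSolvable M) {r d : ℕ} (hr : r.Prime)
    (hr2 : r ≠ 2) (hrF : ¬ r ∣ Fintype.card F) (hd : finrank F U = d) (hd3 : 3 ≤ d)
    (he : orderOf ((Fintype.card F : ℕ) : ZMod r) = d) (hs : d + 1 < r) {y x : G} (hyM : y ∈ M) (hxM : x ∈ M)
    (hy : φ y ^ r = 1) (hy1 : φ y ≠ 1) {c : F} (hW : d ≤ finrank F (LinearMap.ker (φ x - c • 1)) + 1) :
    φ x = c • 1 := by
  classical
  have hrf : Fact r.Prime := ⟨hr⟩
  -- the image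
  let ψ : M →* (Module.End F U)ˣ := (φ.comp M.subtype).toHomUnits
  have hψ : ∀ g : M, ((ψ g : (Module.End F U)ˣ) : Module.End F U) = φ g := fun g => rfl
  let G' : Subgroup (Module.End F U)ˣ := ψ.range
  have hG'fin : Finite G' := by
    have : Finite (Set.range ψ) := inferInstance
    exact this
  let φ' : G' →* (U →ₗ[F] U) := (Units.coeHom (Module.End F U)).comp G'.subtype
  have hφ' : Function.Injective φ' := fun a b hab => Subtype.ext (Units.ext hab)
  have hG's : Group.IsSolvable (⊤ : Subgroup G') := by
    have h1 : Group.IsSolvable G' := Group.isSolvable_of_surjective (f := ψ.rangeRestrict) ψ.rangeRestrict_surjective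
    exact Group.isSolvable_of_isSolvable_injective (f := (⊤ : Subgroup G').subtype) (Subgroup.subtype_injective _)
  let y' : G' := ⟨ψ ⟨y, hyM⟩, _, rfl⟩
  have hφy : φ' y' = φ y := rfl
  have hy' : orderOf y' = r := by
    apply orderOf_eq_prime
    · apply hφ'
      rw [map_pow, hφy, hy, map_one]
    · intro h
      apply hy1
      rw [← hφy, h, map_one]
  have hirr1 : ∀ W : Submodule F U, (∀ v ∈ W, φ y v ∈ W) → W = ⊥ ∨ W = ⊤ := fun W hW =>
    invariant_eq hr hrF (k := 1) (by rwa [pow_one]) hy1 (he.trans hd.symm) W hW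
  have hV : (⊤ : Submodule F U) ≠ ⊥ := by
    intro h
    have h1 : finrank F (⊤ : Submodule F U) = 0 := by rw [h, finrank_bot]
    rw [finrank_top] at h1
    omega
  have key := mem_zpowers_of_size φ' hφ' hr hr2 hrF (by omega) (Or.inl (by
    rw [hd, Nat.sub_self, pow_zero, pow_one]
    exact hs)) hy' hG's (Subgroup.mem_top _) (core_of_irred φ' hφ' hV fun W hW => hirr1 W fun v hv =>
      hW y' (Subgroup.mem_top _) v hv)
  -- `x` normalises `⟨y⟩`
  let x' : G' := ⟨ψ ⟨x, hxM⟩, _, rfl⟩
  have hφx : φ' x' = φ x := rfl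
  have h1 : x' * y' * x'⁻¹ ∈ Subgroup.zpowers y' := key _ (Subgroup.mem_top _) (by
    have : orderOf (MulAut.conj x' y') = orderOf y' := MulEquiv.orderOf_eq _ _
    rw [MulAut.conj_apply] at this
    rw [this, hy'])
  have h2 : x' * y' * x'⁻¹ * y'⁻¹ ∈ Subgroup.zpowers y' := mul_mem h1 (inv_mem (Subgroup.mem_zpowers y'))
  set W := LinearMap.ker (φ x - c • 1) with hWdef
  have hWm : ∀ v, v ∈ W ↔ φ x v = c • v := by
    intro v
    rw [hWdef, LinearMap.mem_ker, LinearMap.sub_apply, LinearMap.smul_apply, Module.End.one_apply, sub_eq_zero]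
  have hxi : ∀ v, φ' x'⁻¹ (φ x v) = v := by
    intro v
    rw [← hφx, ← Module.End.mul_apply, ← map_mul, inv_mul_cancel, map_one]
    rfl
  have hyi : ∀ v, φ' y'⁻¹ (φ y v) = v := by
    intro v
    rw [← hφy, ← Module.End.mul_apply, ← map_mul, inv_mul_cancel, map_one]
    rfl
  by_cases hWtop : W = ⊤
  · ext v
    exact (hWm v).1 (by rw [hWtop]; trivial)
  exfalso
  have hWlt : finrank F W < d := hd ▸ Submodule.finrank_lt hWtop
  -- `c ≠ 0`
  have hWbot : W ≠ ⊥ := by
    intro h
    rw [h, finrank_bot] at hW
    omega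
  have hc : c ≠ 0 := by
    rintro rfl
    apply hWbot
    rw [eq_bot_iff]
    intro v hv
    rw [hWm, zero_smul] at hv
    have := hxi v
    rw [hv, map_zero] at this
    exact this.symm
  have hyinj : Function.Injective (φ y) := fun a b hab => by
    rw [← hyi a, ← hyi b, hab]
  -- the commutator is trivial
  have h3 : x' * y' * x'⁻¹ * y'⁻¹ = 1 := by
    by_contra hne
    set k := x' * y' * x'⁻¹ * y'⁻¹ with hk
    have hko : orderOf k = r := by
      have h3 : orderOf k ∣ r := by
        have h4 := orderOf_dvd_natCard (⟨k, h2⟩ : Subgroup.zpowers y')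
        rwa [Subgroup.orderOf_mk, Nat.card_zpowers, hy'] at h4
      rcases (Nat.dvd_prime hr).1 h3 with h4 | h4
      · exact absurd (orderOf_eq_one_iff.1 h4) hne
      · exact h4
    have hyk : y' ∈ Subgroup.zpowers k := mem_zpowers_symm hr hko hy' h2
    have hcomm : Commute k y' := by
      obtain ⟨i, hi⟩ := Subgroup.mem_zpowers_iff.1 h2
      rw [← hi]
      exact (Commute.refl y').zpow_left i
    -- the fixed space of `k` is `⊥`
    have hfk : fixS (φ' k) = ⊥ := by
      rcases hirr1 (fixS (φ' k)) (fixS_invariant (g := φ y) (by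
        rw [← hφy, ← map_mul, ← map_mul, hcomm.eq])) with h4 | h4
      · exact h4
      · exfalso
        apply hne
        apply hφ'
        rw [fixS_eq_top_iff.1 h4, map_one]
    -- but it contains `W ⊓ y W`
    have h4 : W ⊓ W.map (φ y) ≤ fixS (φ' k) := by
      rintro _ ⟨hv1, v, hv2, rfl⟩
      have hv3 : φ x v = c • v := (hWm v).1 hv2
      have hv4 : φ x (φ y v) = c • φ y v := (hWm _).1 hv1
      rw [mem_fixS, hk, map_mul, map_mul, map_mul, Module.End.mul_apply, Module.End.mul_apply, Module.End.mul_apply,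
        hyi, hφx, hφy]
      have h5 : φ' x'⁻¹ v = c⁻¹ • v := by
        have h6 := hxi v
        rw [hv3, map_smul] at h6
        rw [← h6, smul_smul, inv_mul_cancel₀ hc, one_smul, h6]
      rw [h5, map_smul, map_smul, hv4, smul_smul, inv_mul_cancel₀ hc, one_smul]
    have h5 : finrank F (W.map (φ y)) = finrank F W := (Submodule.equivMapOfInjective (φ y) hyinj W).finrank_eq.symm
    have h6 := Submodule.finrank_sup_add_finrank_inf_eq W (W.map (φ y))
    have h7 : finrank F ↥(W ⊔ W.map (φ y)) ≤ d := hd ▸ Submodule.finrank_le _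
    rw [hfk, le_bot_iff] at h4
    rw [h4, finrank_bot] at h6
    omega
  -- so `W` is invariant
  have h4 : ∀ v ∈ W, φ y v ∈ W := by
    intro v hv
    rw [hWm] at hv ⊢
    have h5 : x' * y' = y' * x' := by
      have h6 : x' * y' * x'⁻¹ * y'⁻¹ = (x' * y') * (y' * x')⁻¹ := by group
      rw [h6, mul_inv_eq_one] at h3
      exact h3
    have h6 := congrArg (fun g => φ' g v) h5
    simp only [map_mul, Module.End.mul_apply, hφx, hφy] at h6
    rw [h6, hv, map_smul]
  rcases hirr1 W h4 with h5 | h5
  · exact hWbot h5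
  · exact hWtop h5

/-- The same for `M` acting on an invariant hyperplane or modulo an invariant line. -/
theorem anti_homology {V : Type v} [AddCommGroup V] [Module F V] [FiniteDimensional F V]
    (φ : G →* (V →ₗ[F] V)) (hφ : Function.Injective φ) {r n : ℕ} (hr : r.Prime) (hr2 : r ≠ 2)
    (hrF : ¬ r ∣ Fintype.card F) (hn : finrank F V = n) (hn4 : 4 ≤ n)
    (he : orderOf ((Fintype.card F : ℕ) : ZMod r) + 1 = n) (hs : n + 1 < r) {y x : G} (hy : orderOf y = r)
    {M : Subgroup G} (hM : Group.IsSolvable M) (hyM : y ∈ M) (hxM : x ∈ M) {c : F}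
    (hW : n ≤ finrank F (LinearMap.ker (φ x - c • 1)) + 1) (hxc : φ x ≠ c • 1) :
    LinearMap.range (φ x - c • 1) = fixS (φ y) ∨ LinearMap.ker (φ x - c • 1) = LinearMap.range (φ y - 1) := by
  classical
  have hy0 : φ y ^ r = 1 := by rw [← map_pow, ← hy, pow_orderOf_eq_one, map_one]
  have hy1 : φ y ≠ 1 := fun h => by
    have h1 : y = 1 := hφ (by rw [h, map_one])
    rw [h1, orderOf_one] at hy
    exact hr.one_lt.ne hy
  have hfix : finrank F (fixS (φ y)) = 1 := by
    have h2 := finrank_fixS_add hr hrF (a := 1) (by rwa [pow_one]) hy1 rfl (by omega)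
    omega
  have hran : finrank F (LinearMap.range (φ y - 1)) = n - 1 := by
    have h3 := finrank_rangeS (φ y)
    omega
  have hcompl := isCompl_anti hr hrF hy0 hy1 hn (by omega) he
  have hWtop : LinearMap.ker (φ x - c • 1) ≠ ⊤ := by
    intro h
    apply hxc
    rw [LinearMap.ker_eq_top, sub_eq_zero] at h
    exact h
  have hWlt : finrank F (LinearMap.ker (φ x - c • 1)) < n := hn ▸ Submodule.finrank_lt hWtop
  have hrk := LinearMap.finrank_range_add_finrank_ker (φ x - c • 1)
  rw [hn] at hrk
  have hWm : ∀ v, v ∈ LinearMap.ker (φ x - c • 1) ↔ φ x v = c • v := by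
    intro v
    rw [LinearMap.mem_ker, LinearMap.sub_apply, LinearMap.smul_apply, Module.End.one_apply, sub_eq_zero]
  have htop : Group.IsSolvable (⊤ : Subgroup M) :=
    Group.isSolvable_of_isSolvable_injective (f := (⊤ : Subgroup M).subtype) (Subgroup.subtype_injective _)
  -- an invariant line
  have caseL : (∀ g ∈ M, ∀ v ∈ fixS (φ y), φ g v ∈ fixS (φ y)) → LinearMap.range (φ x - c • 1) = fixS (φ y) := by
    intro hL
    set L := fixS (φ y) with hLdef
    have hLc : ∀ g : M, L ≤ L.comap (φ g) := fun g v hv => hL g g.2 v hv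
    let ψ : M →* (V ⧸ L →ₗ[F] V ⧸ L) :=
      { toFun := fun g => L.mapQ L (φ g) (hLc g)
        map_one' := by
          apply LinearMap.ext
          intro v
          obtain ⟨v, rfl⟩ := Submodule.Quotient.mk_surjective L v
          rw [Submodule.mapQ_apply, Subgroup.coe_one, map_one]
          rfl
        map_mul' := fun a b => by
          apply LinearMap.ext
          intro v
          obtain ⟨v, rfl⟩ := Submodule.Quotient.mk_surjective L v
          rw [Submodule.mapQ_apply, Module.End.mul_apply, Submodule.mapQ_apply, Submodule.mapQ_apply,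
            Subgroup.coe_mul, map_mul]
          rfl }
    have hψ : ∀ (g : M) (v : V), ψ g (Submodule.Quotient.mk v) = Submodule.Quotient.mk (φ g v) := fun g v => rfl
    have hQ : finrank F (V ⧸ L) = n - 1 := by
      have := Submodule.finrank_quotient_add_finrank L
      omega
    have hψy1 : ψ ⟨y, hyM⟩ ≠ 1 := by
      intro h
      have h1 : LinearMap.range (φ y - 1) ≤ L := by
        rintro _ ⟨v, rfl⟩
        have h2 := hψ ⟨y, hyM⟩ v
        rw [h] at h2
        rw [LinearMap.sub_apply, Module.End.one_apply]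
        exact (Submodule.Quotient.eq L).1 h2.symm
      have h2 := Submodule.finrank_mono h1
      omega
    have h1 := scalar_of_big ψ htop hr hr2 hrF hQ (by omega) (by omega) (by omega) (y := ⟨y, hyM⟩) (x := ⟨x, hxM⟩)
      (Subgroup.mem_top _) (Subgroup.mem_top _) (by
        rw [← map_pow]
        have : (⟨y, hyM⟩ : M) ^ r = 1 := Subtype.ext (by
          show y ^ r = 1
          rw [← hy, pow_orderOf_eq_one])
        rw [this, map_one]) hψy1 (c := c) (by
        have h2 : (LinearMap.ker (φ x - c • 1)).map L.mkQ ≤ LinearMap.ker (ψ ⟨x, hxM⟩ - c • 1) := by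
          rintro _ ⟨v, hv, rfl⟩
          rw [LinearMap.mem_ker, LinearMap.sub_apply, LinearMap.smul_apply, Module.End.one_apply, Submodule.mkQ_apply,
            hψ, (hWm v).1 hv, Submodule.Quotient.mk_smul, sub_self]
        have h3 := Submodule.finrank_mono h2
        have h4 := LinearMap.finrank_range_add_finrank_ker (L.mkQ.domRestrict (LinearMap.ker (φ x - c • 1)))
        rw [LinearMap.range_domRestrict] at h4
        have h5 : finrank F (LinearMap.ker (L.mkQ.domRestrict (LinearMap.ker (φ x - c • 1)))) ≤ 1 := by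
          rw [← hfix]
          refine LinearMap.finrank_le_finrank_of_injective
            (f := ((LinearMap.ker (φ x - c • 1)).subtype.comp (LinearMap.ker _).subtype).codRestrict L ?_) ?_
          · intro v
            have h6 := v.2
            rw [LinearMap.mem_ker, LinearMap.domRestrict_apply, Submodule.mkQ_apply, Submodule.Quotient.mk_eq_zero] at h6
            exact h6
          · intro a b hab
            have h7 := congrArg Subtype.val hab
            exact Subtype.ext (Subtype.ext h7)
        omega)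
    have h2 : LinearMap.range (φ x - c • 1) ≤ L := by
      rintro _ ⟨v, rfl⟩
      have h3 := hψ ⟨x, hxM⟩ v
      rw [h1] at h3
      rw [LinearMap.sub_apply, LinearMap.smul_apply, Module.End.one_apply]
      exact (Submodule.Quotient.eq L).1 h3.symm
    exact Submodule.eq_of_le_of_finrank_le h2 (by omega)
  -- an invariant hyperplane
  have caseH : (∀ g ∈ M, ∀ v ∈ LinearMap.range (φ y - 1), φ g v ∈ LinearMap.range (φ y - 1)) →
      LinearMap.ker (φ x - c • 1) = LinearMap.range (φ y - 1) := by
    intro hH
    set H := LinearMap.range (φ y - 1) with hHdef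
    let ψ : M →* (H →ₗ[F] H) :=
      { toFun := fun g => (φ g).restrict (fun v hv => hH g g.2 v hv)
        map_one' := by
          apply LinearMap.ext
          intro v
          apply Subtype.ext
          rw [LinearMap.coe_restrict_apply, Subgroup.coe_one, map_one]
          rfl
        map_mul' := fun a b => by
          apply LinearMap.ext
          intro v
          apply Subtype.ext
          rw [LinearMap.coe_restrict_apply, Subgroup.coe_mul, map_mul]
          rfl }
    have hψ : ∀ (g : M) (v : H), ((ψ g v : H) : V) = φ g v := fun g v => rfl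
    have hψy1 : ψ ⟨y, hyM⟩ ≠ 1 := by
      intro h
      have h1 : H ≤ fixS (φ y) := by
        intro v hv
        rw [mem_fixS]
        have h2 := hψ ⟨y, hyM⟩ ⟨v, hv⟩
        rw [h] at h2
        exact h2.symm
      have h2 := Submodule.finrank_mono h1
      omega
    have h1 := scalar_of_big ψ htop hr hr2 hrF hran (by omega) (by omega) (by omega) (y := ⟨y, hyM⟩) (x := ⟨x, hxM⟩)
      (Subgroup.mem_top _) (Subgroup.mem_top _) (by
        rw [← map_pow]
        have : (⟨y, hyM⟩ : M) ^ r = 1 := Subtype.ext (by
          show y ^ r = 1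
          rw [← hy, pow_orderOf_eq_one])
        rw [this, map_one]) hψy1 (c := c) (by
        have h3 : finrank F ↥(LinearMap.ker (φ x - c • 1) ⊓ H) ≤
            finrank F (LinearMap.ker (ψ ⟨x, hxM⟩ - c • 1)) := by
          let f : ↥(LinearMap.ker (φ x - c • 1) ⊓ H) →ₗ[F] LinearMap.ker (ψ ⟨x, hxM⟩ - c • 1) :=
            ((LinearMap.ker (φ x - c • 1) ⊓ H).subtype.codRestrict H (fun v => v.2.2)).codRestrict _ (by
              intro v
              rw [LinearMap.mem_ker, LinearMap.sub_apply, LinearMap.smul_apply, Module.End.one_apply, sub_eq_zero]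
              apply Subtype.ext
              rw [hψ]
              exact (hWm v).1 v.2.1)
          refine LinearMap.finrank_le_finrank_of_injective (f := f) ?_
          intro a b hab
          have h7 := congrArg (fun u : LinearMap.ker (ψ ⟨x, hxM⟩ - c • 1) => ((u : H) : V)) hab
          exact Subtype.ext h7
        have h4 := Submodule.finrank_sup_add_finrank_inf_eq (LinearMap.ker (φ x - c • 1)) H
        have h5 : finrank F ↥(LinearMap.ker (φ x - c • 1) ⊔ H) ≤ n := hn ▸ Submodule.finrank_le _
        omega)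
    have h2 : H ≤ LinearMap.ker (φ x - c • 1) := by
      intro v hv
      rw [hWm]
      have h3 := hψ ⟨x, hxM⟩ ⟨v, hv⟩
      rw [h1] at h3
      exact h3.symm
    exact (Submodule.eq_of_le_of_finrank_le h2 (by omega)).symm
  by_cases hirr : ∀ U : Submodule F V, (∀ g ∈ M, ∀ v ∈ U, φ g v ∈ U) → U = ⊥ ∨ U = ⊤
  · left
    apply caseL
    have hV : (⊤ : Submodule F V) ≠ ⊥ := by
      intro h
      have h1 : finrank F (⊤ : Submodule F V) = 0 := by rw [h, finrank_bot]
      rw [finrank_top] at h1
      omega
    have h1 := mem_zpowers_of_size φ hφ hr hr2 hrF (by omega) (Or.inl (by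
      rw [hn, Nat.sub_self, pow_zero, pow_one]
      exact hs)) hy hM hyM (core_of_irred φ hφ hV hirr)
    intro g hg v hv
    have h2 : g⁻¹ * y * g ∈ Subgroup.zpowers y := by
      refine h1 _ (mul_mem (mul_mem (inv_mem hg) hyM) hg) ?_
      have : orderOf (MulAut.conj g⁻¹ y) = orderOf y := MulEquiv.orderOf_eq _ _
      rw [MulAut.conj_apply, inv_inv] at this
      rw [this, hy]
    obtain ⟨k, hk⟩ : ∃ k : ℕ, y ^ k = g⁻¹ * y * g := mem_powers_iff_mem_zpowers.2 h2
    rw [mem_fixS] at hv ⊢
    have h3 : φ (y ^ k) v = v := by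
      rw [map_pow]
      clear hk
      induction k with
      | zero => rw [pow_zero]; rfl
      | succ k ih => rw [pow_succ, Module.End.mul_apply, hv, ih]
    have h4 : y * g = g * (y ^ k) := by rw [hk]; group
    rw [← Module.End.mul_apply, ← map_mul, h4, map_mul, Module.End.mul_apply, h3]
  · push Not at hirr
    obtain ⟨U, hU, hU0, hU1⟩ := hirr
    rcases invariant_anti hr hrF hy0 hy1 hn (by omega) he U (hU y hyM) with h1 | h1 | h1 | h1
    · exact absurd h1 hU0
    · left
      apply caseL
      rw [← h1]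
      exact hU
    · right
      apply caseH
      rw [← h1]
      exact hU
    · exact absurd h1 hU1

/-- In general: `x` fixes the line or the hyperplane. -/
theorem anti_fix {V : Type v} [AddCommGroup V] [Module F V] [FiniteDimensional F V]
    (φ : G →* (V →ₗ[F] V)) (hφ : Function.Injective φ) {r n : ℕ} (hr : r.Prime) (hr2 : r ≠ 2)
    (hrF : ¬ r ∣ Fintype.card F) (hn : finrank F V = n) (hn3 : 3 ≤ n)
    (he : orderOf ((Fintype.card F : ℕ) : ZMod r) + 1 = n) (hs : n + 1 < r) {y x : G} (hy : orderOf y = r)
    {M : Subgroup G} (hM : Group.IsSolvable M) (hyM : y ∈ M) (hxM : x ∈ M) :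
    (∀ v ∈ fixS (φ y), φ x v ∈ fixS (φ y)) ∨ ∀ v ∈ LinearMap.range (φ y - 1), φ x v ∈ LinearMap.range (φ y - 1) := by
  have h0 : orderOf (x⁻¹ * y * x) = r := by
    have : orderOf (MulAut.conj x⁻¹ y) = orderOf y := MulEquiv.orderOf_eq _ _
    rw [MulAut.conj_apply, inv_inv] at this
    rw [this, hy]
  have h1 : y * x = x * (x⁻¹ * y * x) := by group
  rcases share_anti φ hφ hr hr2 hrF hn hn3 he hs hy h0 hM hyM (mul_mem (mul_mem (inv_mem hxM) hyM) hxM) with h | h
  · left
    intro v hv
    have hv' : φ (x⁻¹ * y * x) v = v := by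
      rw [h] at hv
      exact hv
    rw [mem_fixS, ← Module.End.mul_apply, ← map_mul, h1, map_mul, Module.End.mul_apply, hv']
  · right
    intro v hv
    rw [h] at hv
    obtain ⟨w, rfl⟩ := hv
    refine ⟨φ x w, ?_⟩
    rw [LinearMap.sub_apply, LinearMap.sub_apply, Module.End.one_apply, Module.End.one_apply, map_sub,
      ← Module.End.mul_apply, ← Module.End.mul_apply, ← map_mul, ← map_mul, h1]

end

end Cfsg.Agent.H479.AS
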