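import Cfsg.Agent.H965.ASCyc

/-!
# Criteria for `AS2` with elements of composite order (helper479)

`SUg p y`: every solvable subgroup containing `y` has at most one subgroup of order `p` (`y` need not be a `p`-element).
The criteria of `H965/ASCrit.lean`, `H965/ASCyc.lean` hold for such elements:

* `AS2.of_half_g`, `AS2.of_D_g`, `AS2.of_cyclic_g` : copies for `SUg`;
* `GRow S p y z` : `z` is a power of `y` of order `p`, `p ^ 2 ∤ |S|`, `p ∤ |Out S|`;
* `AS2.of_gen_g` : only automorphisms of prime order `≠ p` fixing `z` matter;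
* `AS2.of_idx` : `2 |C_S(z)| ≤ b` suffices, `b` a lower bound for the indices;
* `AS2.of_idx_inn` : `|N_S(⟨z⟩)| < p b` suffices if all automorphisms (of prime order `≠ p`, fixing `z`) are inner.
-/

set_option autoImplicit false
set_option linter.unusedSectionVars false

namespace Cfsg.Agent.H479.AS

open Cfsg Subgroup Cfsg.Agent.H465.SU Cfsg.Agent.H465.Red Cfsg.Agent.H965.AS Cfsg.Agent.H965.SU
  Cfsg.Agent.OddOrderLocal.CyclicSub

universe u v

section Def

variable {S : Type u} [Group S] {T : Type v} [Group T]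

/-- every solvable subgroup containing `y` has at most one subgroup of order `p` -/
def SUg (p : ℕ) (y : S) : Prop :=
  ∀ M : Subgroup S, Group.IsSolvable M → y ∈ M →
    ∀ A B : Subgroup S, A ≤ M → B ≤ M → Nat.card A = p → Nat.card B = p → A = B

theorem SUg.congr {p : ℕ} {y : S} (e : S ≃* T) (h : SUg p y) : SUg p (e y) := by
  intro M hM hyM A B hA hB hAc hBc
  have h1 : Group.IsSolvable (M.map e.symm.toMonoidHom) :=
    Group.isSolvable_of_surjective (f := e.symm.toMonoidHom.subgroupMap M) (MonoidHom.subgroupMap_surjective _ _)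
  have h2 : y ∈ M.map e.symm.toMonoidHom := ⟨e y, hyM, e.symm_apply_apply y⟩
  have hcard : ∀ B : Subgroup T, Nat.card (B.map e.symm.toMonoidHom) = Nat.card B := fun B =>
    card_map_of_injective e.symm.injective
  have h3 := h _ h1 h2 (A.map e.symm.toMonoidHom) (B.map e.symm.toMonoidHom) (map_mono hA) (map_mono hB)
    (by rw [hcard, hAc]) (by rw [hcard, hBc])
  exact map_injective e.symm.injective h3

end Def

variable {S : Type u} [Group S]

/-- **solvable pairs are bad** -/
theorem mem_bad_of_solvable_g (hcen : center S = ⊥) {p : ℕ} {y : S} (hy : SUg p y) {A : Subgroup S}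
    (hA : A ≤ zpowers y) (hAc : Nat.card A = p) {x : MulAut S} {g : S}
    (h : Group.IsSolvable (closure ({x, MulAut.conj (g * y * g⁻¹)} : Set (MulAut S)))) : g ∈ Bad A x := by
  have hy' := hy.congr (MulAut.conj g)
  have hu := hy'
  set M := closure ({x, MulAut.conj (g * y * g⁻¹)} : Set (MulAut S)) with hM
  have hHs : Group.IsSolvable (M.comap (MulAut.conj : S →* MulAut S)) := by
    let f : M.comap (MulAut.conj : S →* MulAut S) →* M :=
      ((MulAut.conj : S →* MulAut S).comp (M.comap (MulAut.conj : S →* MulAut S)).subtype).codRestrict M fun g => g.2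
    refine Group.isSolvable_of_isSolvable_injective (f := f) ?_
    intro a b hab
    exact Subtype.ext (conj_injective hcen (congrArg Subtype.val hab))
  have hxM : x ∈ M := subset_closure (by simp)
  have hyM : MulAut.conj g y ∈ M.comap (MulAut.conj : S →* MulAut S) := by
    show MulAut.conj (g * y * g⁻¹) ∈ M
    exact subset_closure (by simp)
  have hle : A.map (MulAut.conj g).toMonoidHom ≤ M.comap (MulAut.conj : S →* MulAut S) := by
    rintro _ ⟨u, hu', rfl⟩
    obtain ⟨i, rfl⟩ := mem_zpowers_iff.1 (hA hu')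
    have : (MulAut.conj g).toMonoidHom (y ^ i) = (MulAut.conj g y) ^ i := by
      show MulAut.conj g (y ^ i) = _
      rw [map_zpow]
    rw [this]
    exact zpow_mem hyM i
  have hle2 : (A.map (MulAut.conj g).toMonoidHom).map x.toMonoidHom ≤ M.comap (MulAut.conj : S →* MulAut S) := by
    rintro _ ⟨u, hu', rfl⟩
    have h1 : MulAut.conj u ∈ M := hle hu'
    show MulAut.conj (x u) ∈ M
    have e : (MulAut.conj (x u) : MulAut S) = x * MulAut.conj u * x⁻¹ := by
      ext l
      simp
    rw [e]
    exact mul_mem (mul_mem hxM h1) (inv_mem hxM)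
  have hcard : ∀ (B : Subgroup S) (e : MulAut S), Nat.card (B.map e.toMonoidHom) = Nat.card B := fun B e =>
    card_map_of_injective e.injective
  exact hu _ hHs hyM _ _ hle2 hle (by rw [hcard, hcard, hAc]) (by rw [hcard, hAc])

variable [Finite S]

/-- **The counting criterion.** -/
theorem of_half_g (hcen : center S = ⊥) {p : ℕ} {y : S} (hy : SUg p y) {A : Subgroup S}
    (hA : A ≤ zpowers y) (hAc : Nat.card A = p)
    (h : ∀ x : MulAut S, (orderOf x).Prime → 2 * (Bad A x).ncard < Nat.card S) : AS2 S := by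
  classical
  have key : ∀ x : MulAut S, x ≠ 1 → 2 * (Bad A x).ncard < Nat.card S := by
    intro x hx
    obtain ⟨s, hs, hsx⟩ := Nat.exists_prime_and_dvd (n := orderOf x) (by rwa [ne_eq, orderOf_eq_one_iff])
    have hfin : Finite (MulAut S) := inferInstance
    have h1 : orderOf (x ^ (orderOf x / s)) = s := orderOf_pow_orderOf_div (orderOf_pos x).ne' hsx
    refine lt_of_le_of_lt (Nat.mul_le_mul_left 2 (Set.ncard_le_ncard (bad_pow (orderOf x / s)) (Set.toFinite _))) ?_
    exact h _ (by rw [h1]; exact hs)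
  intro a b ha hb
  by_contra hcon
  push Not at hcon
  have h1 : Bad A a ∪ Bad A b = Set.univ := by
    rw [Set.eq_univ_iff_forall]
    intro g
    by_cases hg : Group.IsSolvable (closure ({a, MulAut.conj (g * y * g⁻¹)} : Set (MulAut S)))
    · exact Or.inl (mem_bad_of_solvable_g hcen hy hA hAc hg)
    · exact Or.inr (mem_bad_of_solvable_g hcen hy hA hAc (hcon _ hg))
  have h2 := Set.ncard_union_le (Bad A a) (Bad A b)
  rw [h1, Set.ncard_univ] at h2
  have h3 := key a ha
  have h4 := key b hb
  omega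

/-- **The trick of helper489.** -/
theorem of_D_g [IsSimpleGroup S] (hna : ¬ IsMulCommutative S) (hcen : center S = ⊥) {p : ℕ} {y : S} (hy : SUg p y)
    {A : Subgroup S} (hA : A ≤ zpowers y) (hAc : Nat.card A = p) {D : Set S} (hD : ∀ x : MulAut S, ∀ d ∈ D, x d ∈ D)
    (hDi : ∀ d ∈ D, d⁻¹ ∈ D) (hDg : closure D = ⊤)
    (hN : ∀ d ∈ D, ∀ d' ∈ D, ∀ g : S, d * d' ∈ normalizer ((A.map (MulAut.conj g).toMonoidHom : Subgroup S) : Set S) →
      d * d' = 1) : AS2 S := by
  classical
  refine of_half_g hcen hy hA hAc fun x hx => ?_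
  by_contra hcon
  push Not at hcon
  set B := Bad A x with hB
  have hx1 : x ≠ 1 := by
    rintro rfl
    rw [orderOf_one] at hx
    exact Nat.not_prime_one hx
  -- left multiplication
  have hmul : ∀ d u : S, d * u ∈ B ↔ u ∈ Bad A ((MulAut.conj d)⁻¹ * x * MulAut.conj d) := by
    intro d u
    rw [hB, mem_bad, mem_bad]
    have e : (MulAut.conj (d * u))⁻¹ * x * MulAut.conj (d * u) =
        (MulAut.conj u)⁻¹ * ((MulAut.conj d)⁻¹ * x * MulAut.conj d) * MulAut.conj u := by
      rw [map_mul]; group
    rw [e]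
  have hfix : ∀ d : S, x d = d → ∀ u, d * u ∈ B ↔ u ∈ B := by
    intro d hd u
    rw [hmul]
    have e : (MulAut.conj d)⁻¹ * x * MulAut.conj d = x := by
      rw [conj_eq]
      have : x⁻¹ d⁻¹ * d = 1 := by
        have h1 : x⁻¹ d⁻¹ = d⁻¹ := by
          apply x.injective
          rw [show x (x⁻¹ d⁻¹) = d⁻¹ from x.apply_symm_apply _, map_inv, hd]
        rw [h1, inv_mul_cancel]
      rw [this, map_one, mul_one]
    rw [e]
  have hmove : ∀ d ∈ D, x d ≠ d → ∀ u ∈ B, d * u ∉ B := by
    intro d hd hxd u hu hdu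
    rw [hmul, conj_eq] at hdu
    have h1 : (A.map (MulAut.conj u).toMonoidHom).map x.toMonoidHom = A.map (MulAut.conj u).toMonoidHom := hu
    have h2 : (A.map (MulAut.conj u).toMonoidHom).map (x * MulAut.conj (x⁻¹ d⁻¹ * d)).toMonoidHom =
        A.map (MulAut.conj u).toMonoidHom := hdu
    rw [← map_map'] at h2
    have h3 := (Subgroup.map_injective (f := x.toMonoidHom) x.injective) (h2.trans h1.symm)
    have h4 : x⁻¹ d⁻¹ * d = 1 := hN _ (hD _ _ (hDi d hd)) d hd u (mem_normalizer_iff_map.2 h3)
    apply hxd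
    have h5 : x⁻¹ d⁻¹ = d⁻¹ := by rw [← mul_eq_one_iff_eq_inv, h4]
    have h6 := congrArg x h5
    rw [show x (x⁻¹ d⁻¹) = d⁻¹ from x.apply_symm_apply _, map_inv] at h6
    exact (inv_injective h6).symm
  have hcompl : ∀ d ∈ D, x d ≠ d → ∀ u, d * u ∈ B ↔ u ∉ B := by
    intro d hd hxd u
    constructor
    · intro h1 h2
      exact hmove d hd hxd u h2 h1
    · intro hu
      by_contra hdu
      have h1 : (fun v => d * v) '' B ⊆ Bᶜ := by
        rintro _ ⟨v, hv, rfl⟩
        exact hmove d hd hxd v hv
      have h2 : (Bᶜ).ncard ≤ ((fun v => d * v) '' B).ncard := by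
        rw [Set.ncard_image_of_injective _ (mul_right_injective d)]
        have h3 := Set.ncard_add_ncard_compl B
        omega
      have h3 := Set.eq_of_subset_of_ncard_le h1 h2 (Set.toFinite _)
      have h4 : d * u ∈ (fun v => d * v) '' B := by rw [h3]; exact hdu
      obtain ⟨v, hv, hvu⟩ := h4
      exact hu ((mul_left_cancel hvu) ▸ hv)
  let K0 : Subgroup S :=
    { carrier := {g | ∀ u, g * u ∈ B ↔ u ∈ B}
      one_mem' := fun u => by rw [one_mul]
      mul_mem' := fun {a b} ha hb u => by rw [mul_assoc, ha, hb]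
      inv_mem' := fun {a} ha u => by
        have := ha (a⁻¹ * u)
        rw [mul_inv_cancel_left] at this
        exact this.symm }
  let H0 : Subgroup S :=
    { carrier := {g | (∀ u, g * u ∈ B ↔ u ∈ B) ∨ ∀ u, g * u ∈ B ↔ u ∉ B}
      one_mem' := Or.inl fun u => by rw [one_mul]
      mul_mem' := by
        rintro a b (ha | ha) (hb | hb)
        · exact Or.inl fun u => by rw [mul_assoc, ha, hb]
        · exact Or.inr fun u => by rw [mul_assoc, ha, hb]
        · exact Or.inr fun u => by rw [mul_assoc, ha, hb]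
        · exact Or.inl fun u => by rw [mul_assoc, ha, hb, not_not]
      inv_mem' := by
        rintro a (ha | ha)
        · exact Or.inl fun u => by
            have := ha (a⁻¹ * u)
            rw [mul_inv_cancel_left] at this
            exact this.symm
        · exact Or.inr fun u => by
            have := ha (a⁻¹ * u)
            rw [mul_inv_cancel_left] at this
            rw [this, not_not] }
  have hH0 : H0 = ⊤ := by
    rw [eq_top_iff, ← hDg, closure_le]
    intro d hd
    by_cases hxd : x d = d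
    · exact Or.inl (hfix d hxd)
    · exact Or.inr (hcompl d hd hxd)
  obtain ⟨d0, hd0, hxd0⟩ : ∃ d ∈ D, x d ≠ d := by
    by_contra hc
    push Not at hc
    apply Fx_ne_top hx1
    rw [eq_top_iff, ← hDg, closure_le]
    exact hc
  have hK0 : K0.Normal := by
    constructor
    intro n hn g u
    have hg : g ∈ H0 := by rw [hH0]; trivial
    have hg' : g⁻¹ ∈ H0 := inv_mem hg
    have e : g * n * g⁻¹ * u = g * (n * (g⁻¹ * u)) := by group
    rw [e]
    have hn' : ∀ v, n * v ∈ B ↔ v ∈ B := hn
    rcases hg with hg | hg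
    · rw [hg, hn', ← hg, mul_inv_cancel_left]
    · rw [hg, hn', ← hg, mul_inv_cancel_left]
  rcases hK0.eq_bot_or_eq_top with h | h
  · apply hna
    have key : ∀ a b : S, a ≠ 1 → b ≠ 1 → a * b = 1 := by
      intro a b ha hb
      have h1 : ∀ a : S, a ≠ 1 → ∀ u, a * u ∈ B ↔ u ∉ B := by
        intro a ha
        have h2 : a ∈ H0 := by rw [hH0]; trivial
        refine h2.resolve_left fun h3 => ha ?_
        have h4 : a ∈ K0 := h3
        rw [h] at h4
        exact mem_bot.1 h4
      have h2 : a * b ∈ K0 := fun u => by rw [mul_assoc, h1 a ha, h1 b hb, not_not]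
      rw [h] at h2
      exact mem_bot.1 h2
    refine ⟨⟨fun a b => ?_⟩⟩
    by_cases ha : a = 1
    · rw [ha, one_mul, mul_one]
    · by_cases hb : b = 1
      · rw [hb, one_mul, mul_one]
      · rw [key a b ha hb, key b a hb ha]
  · have h1 : d0 ∈ K0 := by rw [h]; trivial
    have h2 := hcompl d0 hd0 hxd0 1
    have h3 : d0 * 1 ∈ B ↔ (1 : S) ∈ B := h1 1
    rw [h3] at h2
    tauto

/-- **The criterion for cyclic Sylow subgroups.** -/
theorem of_cyclic_g [IsSimpleGroup S] (hna : ¬ IsMulCommutative S) {p : ℕ} (hp : p.Prime) (h5 : 5 ≤ p)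
    (hc : ∀ P : Subgroup S, IsPGroup p P → IsCyclic P) {y : S} (hy : SUg p y) {A : Subgroup S}
    (hA : A ≤ zpowers y) (hAc : Nat.card A = p)
    (h : ∀ x : MulAut S, (orderOf x).Prime → (∀ a ∈ A, x a = a) →
      2 * Nat.card (normalizer (A : Set S)) <
        Nat.card ↥(Fx x ⊓ normalizer (A : Set S)) * (Fx x).index) : AS2 S := by
  classical
  have hcen : center S = ⊥ := by
    rcases (inferInstance : (center S).Normal).eq_bot_or_eq_top with h1 | h1
    · exact h1
    · exfalso
      apply hna
      refine ⟨⟨fun a b => ?_⟩⟩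
      have : b ∈ center S := by rw [h1]; trivial
      exact mem_center_iff.1 this a
  set N := normalizer (A : Set S) with hN
  -- the index of N
  have hNidx : 3 ≤ N.index := three_le_index hna (norm_ne_top hna hp hAc)
  refine of_half_g hcen hy hA hAc fun x hx => ?_
  have hfix : ∀ g : S, (∀ a ∈ A, ((MulAut.conj g)⁻¹ * x * MulAut.conj g) a = a) →
      A.map (MulAut.conj g).toMonoidHom ≤ Fx x := by
    rintro g hg _ ⟨a, ha, rfl⟩
    have h1 := congrArg (MulAut.conj g) (hg a ha)
    rw [MulAut.mul_apply, MulAut.mul_apply, MulAut.apply_inv_self] at h1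
    exact h1
  by_cases hcase : ∃ g ∈ Bad A x, ¬ ∀ a ∈ A, ((MulAut.conj g)⁻¹ * x * MulAut.conj g) a = a
  · obtain ⟨g, hg, hgc⟩ := hcase
    rw [← ncard_bad_conj A x g]
    have h1 := card_bad_of_not_cent hp hc hAc (mem_bad.1 hg) hgc
    rw [← hN] at h1
    generalize (Bad A ((MulAut.conj g)⁻¹ * x * MulAut.conj g)).ncard = b at h1 ⊢
    have h2 : Nat.card S = Nat.card N * N.index := N.card_mul_index.symm
    have h3 : 3 * Nat.card N ≤ Nat.card S := by
      rw [h2, mul_comm]
      exact Nat.mul_le_mul_left _ hNidx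
    have h4 : 0 < Nat.card N := Nat.card_pos
    obtain ⟨k, rfl⟩ : ∃ k, p = k + 5 := ⟨p - 5, by omega⟩
    have e1 : k + 5 - 1 = k + 4 := rfl
    rw [e1] at h1
    by_contra hcon
    push Not at hcon
    have h6 : (k + 5) * Nat.card S ≤ 2 * ((k + 5) * b) := by
      calc (k + 5) * Nat.card S ≤ (k + 5) * (2 * b) := Nat.mul_le_mul_left _ hcon
        _ = 2 * ((k + 5) * b) := by ring
    have h7 : (k + 3) * Nat.card S ≤ 2 * (k + 4) * Nat.card N := by
      have e2 : (k + 5) * Nat.card S = (k + 3) * Nat.card S + 2 * Nat.card S := by ring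
      have e3 : 2 * ((k + 4) * Nat.card N) = 2 * (k + 4) * Nat.card N := by ring
      omega
    have h8 : (k + 3) * (3 * Nat.card N) ≤ (k + 3) * Nat.card S := Nat.mul_le_mul_left _ h3
    have e4 : (k + 3) * (3 * Nat.card N) = 2 * (k + 4) * Nat.card N + (k + 1) * Nat.card N := by ring
    have h9 : 0 < (k + 1) * Nat.card N := Nat.mul_pos (by omega) h4
    omega
  · push Not at hcase
    rcases (Bad A x).eq_empty_or_nonempty with h0 | ⟨g0, hg0⟩
    · rw [h0, Set.ncard_empty]
      exact Nat.card_pos
    rw [← ncard_bad_conj A x g0]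
    have hz := hcase g0 hg0
    have hzo : (orderOf ((MulAut.conj g0)⁻¹ * x * MulAut.conj g0)).Prime := by rw [orderOf_conj]; exact hx
    have hzB : ∀ g ∈ Bad A ((MulAut.conj g0)⁻¹ * x * MulAut.conj g0),
        A.map (MulAut.conj g).toMonoidHom ≤ Fx ((MulAut.conj g0)⁻¹ * x * MulAut.conj g0) := by
      intro g hg
      have e : (MulAut.conj g)⁻¹ * ((MulAut.conj g0)⁻¹ * x * MulAut.conj g0) * MulAut.conj g =
          (MulAut.conj (g0 * g))⁻¹ * x * MulAut.conj (g0 * g) := by
        rw [map_mul]; group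
      have h1 : g0 * g ∈ Bad A x := by
        rw [mem_bad] at hg ⊢
        rw [← e]
        exact hg
      rintro _ ⟨a, ha, rfl⟩
      have h2 := hcase _ h1 a ha
      rw [← e] at h2
      have h3 := congrArg (MulAut.conj g) h2
      rw [MulAut.mul_apply, MulAut.mul_apply, MulAut.apply_inv_self] at h3
      exact h3
    set z := (MulAut.conj g0)⁻¹ * x * MulAut.conj g0 with hzdef
    have h1 := card_bad_of_cent hp hc hAc (x := z) (fun a ha => hz a ha) hzB
    have h2 := h z hzo hz
    by_contra hcon
    push Not at hcon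
    rw [← (Fx z).card_mul_index] at hcon
    have hF : 0 < Nat.card (Fx z) := Nat.card_pos
    have h3 : Nat.card (Fx z) * (Nat.card ↥(Fx z ⊓ N) * (Fx z).index) ≤ Nat.card (Fx z) * (2 * Nat.card N) := by
      calc Nat.card (Fx z) * (Nat.card ↥(Fx z ⊓ N) * (Fx z).index)
          = (Nat.card (Fx z) * (Fx z).index) * Nat.card ↥(Fx z ⊓ N) := by ring
        _ ≤ (2 * (Bad A z).ncard) * Nat.card ↥(Fx z ⊓ N) := Nat.mul_le_mul_right _ hcon
        _ = 2 * ((Bad A z).ncard * Nat.card ↥(Fx z ⊓ N)) := by ring
        _ ≤ 2 * (Nat.card (Fx z) * Nat.card N) := Nat.mul_le_mul_left _ h1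
        _ = Nat.card (Fx z) * (2 * Nat.card N) := by ring
    have h4 := Nat.le_of_mul_le_mul_left h3 hF
    omega

/-- the data of a row -/
structure GRow (S : Type*) [Group S] (p : ℕ) (y z : S) : Prop where
  hp : p.Prime
  h5 : 5 ≤ p
  ord : orderOf z = p
  mem : z ∈ zpowers y
  su : SUg p y
  full : ¬ p ^ 2 ∣ Nat.card S
  out : ¬ p ∣ Nat.card (Cfsg.Out S)

section Row

variable [IsSimpleGroup S] {p : ℕ} {y z : S}

/-- **General row**: only automorphisms of prime order `≠ p` fixing `z` matter. -/
theorem of_gen_g (hna : ¬ IsMulCommutative S) (hr : GRow S p y z)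
    (h : ∀ x : MulAut S, (orderOf x).Prime → orderOf x ≠ p → x z = z →
      2 * Nat.card (normalizer ((zpowers z : Subgroup S) : Set S)) <
        Nat.card ↥(Fx x ⊓ normalizer ((zpowers z : Subgroup S) : Set S)) * (Fx x).index) : AS2 S := by
  have hp := hr.hp
  have h5 := hr.h5
  have : Fact p.Prime := ⟨hp⟩
  have hc := pcyc (a := 1) hp (by rw [hr.ord, pow_one]) hr.full
  have hA : zpowers z ≤ zpowers y := zpowers_le.2 hr.mem
  have hAc : Nat.card (zpowers z) = p := by rw [Nat.card_zpowers, hr.ord]
  refine of_cyclic_g hna hp h5 hc hr.su hA hAc fun x hx hxA => ?_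
  by_cases hxp : orderOf x = p
  · -- inner
    obtain ⟨u, hu⟩ := inner_of_card hp hr.out x ⟨1, by rw [hxp, pow_one]⟩
    have hcen : center S = ⊥ := by
      rcases (inferInstance : (center S).Normal).eq_bot_or_eq_top with h1 | h1
      · exact h1
      · exfalso
        apply hna
        refine ⟨⟨fun a b => ?_⟩⟩
        have : b ∈ center S := by rw [h1]; trivial
        exact mem_center_iff.1 this a
    have huo : orderOf u = p := by
      rw [← hxp, hu, orderOf_injective (MulAut.conj : S →* MulAut S) (conj_injective hcen) u]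
    have huA : ∀ a ∈ zpowers z, u * a = a * u := by
      intro a ha
      have h1 := hxA a ha
      rw [hu] at h1
      have h2 : u * a * u⁻¹ = a := h1
      calc u * a = u * a * u⁻¹ * u := by group
        _ = a * u := by rw [h2]
    have h1 : zpowers u = zpowers z := by
      refine eq_of_norm hp hc (by rw [Nat.card_zpowers, huo]) hAc ?_
      rw [zpowers_le]
      apply (centralizer_le_normalizer _)
      rw [mem_centralizer_iff]
      intro a ha
      exact (huA a ha).symm
    have h2 : Fx x = centralizer ((zpowers z : Subgroup S) : Set S) := by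
      rw [← h1, centralizer_zp]
      ext v
      rw [mem_Fx, hu, mem_centralizer_singleton_iff]
      show u * v * u⁻¹ = v ↔ _
      rw [mul_inv_eq_iff_eq_mul]
      exact eq_comm
    have h3 : Fx x ⊓ normalizer ((zpowers z : Subgroup S) : Set S) = Fx x := by
      rw [inf_eq_left, h2]
      exact centralizer_le_normalizer _
    rw [h3, card_mul_index]
    -- index of N ≥ 3
    set N := normalizer ((zpowers z : Subgroup S) : Set S) with hN
    have hNidx : 3 ≤ N.index := three_le_index hna (norm_ne_top hna hp hAc)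
    rw [← N.card_mul_index]
    have h4 : 0 < Nat.card N := Nat.card_pos
    calc 2 * Nat.card N < 3 * Nat.card N := by omega
      _ = Nat.card N * 3 := by ring
      _ ≤ Nat.card N * N.index := Nat.mul_le_mul_left _ hNidx
  · exact h x hx hxp (hxA z (mem_zpowers z))

/-- `2 |C_S(z)| ≤ b` suffices -/
theorem of_idx (hna : ¬ IsMulCommutative S) (hr : GRow S p y z) {c b : ℕ}
    (hc : Nat.card ↥(centralizer ({z} : Set S)) ≤ c)
    (hb : ∀ H : Subgroup S, H ≠ ⊤ → b ≤ H.index) (h : 2 * c ≤ b) : AS2 S := by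
  refine of_gen_g hna hr fun x hx hxp hxz => ?_
  have hp := hr.hp
  have : Fact p.Prime := ⟨hp⟩
  have hAc : Nat.card (zpowers z) = p := by rw [Nat.card_zpowers, hr.ord]
  have hxA := fix_all hxz
  have h0 := card_norm_le hp hAc
  rw [centralizer_zp] at h0
  have h1 : p ≤ Nat.card ↥(Fx x ⊓ normalizer ((zpowers z : Subgroup S) : Set S)) := by
    have h1 : zpowers z ≤ Fx x ⊓ normalizer ((zpowers z : Subgroup S) : Set S) :=
      le_inf (fun a ha => hxA a ha) le_normalizer
    have := Nat.card_le_card_of_injective _ (inclusion_injective h1)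
    rwa [hAc] at this
  have h2 : b ≤ (Fx x).index := hb _ (Fx_ne_top fun h => by
    rw [h, orderOf_one] at hx
    exact Nat.not_prime_one hx)
  have h3 : 0 < c := lt_of_lt_of_le Nat.card_pos hc
  have h4 : 1 ≤ p := hp.one_lt.le
  obtain ⟨k, rfl⟩ : ∃ k, p = k + 1 := ⟨p - 1, by omega⟩
  rw [Nat.add_sub_cancel] at h0
  calc 2 * Nat.card (normalizer ((zpowers z : Subgroup S) : Set S)) ≤ 2 * (k * c) :=
        Nat.mul_le_mul_left _ (h0.trans (Nat.mul_le_mul_left _ hc))
    _ = k * (2 * c) := by ring
    _ ≤ k * b := Nat.mul_le_mul_left _ h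
    _ < (k + 1) * b := by
      have : 0 < b := by omega
      nlinarith
    _ ≤ _ := Nat.mul_le_mul h1 h2

/-- `|N_S(⟨z⟩)| < p b` suffices if the relevant automorphisms are inner -/
theorem of_idx_inn (hna : ¬ IsMulCommutative S) (hr : GRow S p y z) {n b : ℕ}
    (hinn : ∀ x : MulAut S, (orderOf x).Prime → orderOf x ≠ p → x z = z → ∃ u : S, x = MulAut.conj u)
    (hn : Nat.card (normalizer ((zpowers z : Subgroup S) : Set S)) ≤ n)
    (hb : ∀ H : Subgroup S, H ≠ ⊤ → b ≤ H.index) (h : n < p * b) : AS2 S := by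
  refine of_gen_g hna hr fun x hx hxp hxz => ?_
  have hp := hr.hp
  have : Fact p.Prime := ⟨hp⟩
  have hAc : Nat.card (zpowers z) = p := by rw [Nat.card_zpowers, hr.ord]
  have hxA := fix_all hxz
  have hcen : center S = ⊥ := by
    rcases (inferInstance : (center S).Normal).eq_bot_or_eq_top with h1 | h1
    · exact h1
    · exfalso
      apply hna
      refine ⟨⟨fun a b => ?_⟩⟩
      have : b ∈ center S := by rw [h1]; trivial
      exact mem_center_iff.1 this a
  obtain ⟨u, hu⟩ := hinn x hx hxp hxz
  have huo : orderOf u = orderOf x := by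
    rw [hu, orderOf_injective (MulAut.conj : S →* MulAut S) (conj_injective hcen) u]
  have huz : u * z = z * u := by
    rw [hu] at hxz
    have h3 : u * z * u⁻¹ = z := hxz
    exact mul_inv_eq_iff_eq_mul.1 h3
  have hle : zpowers (u * z) ≤ Fx x ⊓ normalizer ((zpowers z : Subgroup S) : Set S) := by
    rw [zpowers_le]
    have h1 : u ∈ Fx x := by
      rw [mem_Fx, hu]
      show u * u * u⁻¹ = u
      group
    refine ⟨mul_mem h1 hxz, mul_mem ?_ (le_normalizer (mem_zpowers z))⟩
    apply centralizer_le_normalizer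
    rw [centralizer_zp, mem_centralizer_singleton_iff]
    exact huz
  have h1 : 2 * p ≤ Nat.card ↥(Fx x ⊓ normalizer ((zpowers z : Subgroup S) : Set S)) := by
    refine le_trans ?_ (Nat.card_le_card_of_injective _ (inclusion_injective hle))
    have hcop : Nat.Coprime (orderOf u) (orderOf z) := by
      rw [huo, hr.ord]
      exact (Nat.coprime_primes hx hp).2 hxp
    rw [Nat.card_zpowers, (show Commute u z from huz).orderOf_mul_eq_mul_orderOf_of_coprime hcop, huo, hr.ord]
    exact Nat.mul_le_mul_right _ hx.two_le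
  have h2 : b ≤ (Fx x).index := hb _ (Fx_ne_top fun h => by
    rw [h, orderOf_one] at hx
    exact Nat.not_prime_one hx)
  calc 2 * Nat.card (normalizer ((zpowers z : Subgroup S) : Set S)) ≤ 2 * n := Nat.mul_le_mul_left _ hn
    _ < 2 * (p * b) := by omega
    _ = 2 * p * b := by ring
    _ ≤ _ := Nat.mul_le_mul h1 h2

end Row

end Cfsg.Agent.H479.AS
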