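import Cfsg.Agent.H479.AS.CritLt
import Cfsg.Agent.H518.SUExc

/-!
# Tools for `SUg` (helper479)

* `sug_of` : it suffices that `z` (a power of `y` of order `p`) centralises the normal `t`-subgroups, `t ≠ p`, of the solvable
  subgroups containing `y`;
* `cent_or_dvd` : `z` centralises a `t`-subgroup `T` it normalises, or `t ^ e |C_T(z)|` divides `|T|`, `e` the order of `t` mod `p`.
-/

set_option autoImplicit false
set_option linter.unusedSectionVars false

namespace Cfsg.Agent.H479.AS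

open Subgroup Cfsg.Agent.H518.SU

universe u v

variable {G : Type u} [Group G] [Finite G]

theorem eq_zpowers_of {p : ℕ} (hp : p.Prime) {z : G} (hz : orderOf z = p) {A : Subgroup G} (hA : Nat.card A = p)
    (h : ∀ u ∈ A, orderOf u = p → u ∈ zpowers z) : A = zpowers z := by
  have : Fact p.Prime := ⟨hp⟩
  apply Subgroup.eq_of_le_of_card_ge
  · intro u hu
    by_cases h1 : u = 1
    · rw [h1]; exact one_mem _
    · apply h u hu
      have h2 : orderOf u ∣ p := by
        have := orderOf_dvd_natCard (⟨u, hu⟩ : A)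
        rwa [orderOf_mk, hA] at this
      rcases (Nat.dvd_prime hp).1 h2 with h3 | h3
      · exact absurd (orderOf_eq_one_iff.1 h3) h1
      · exact h3
  · rw [Nat.card_zpowers, hz, hA]

theorem sug_of {p : ℕ} (hp : p.Prime) {y z : G} (hz : orderOf z = p) (hzy : z ∈ zpowers y)
    (h2 : ¬ p ^ 2 ∣ Nat.card G)
    (h : ∀ M : Subgroup G, Group.IsSolvable M → y ∈ M → ∀ t : ℕ, t.Prime → t ≠ p → ∀ T : Subgroup G, T ≤ M →
      IsPGroup t T → (∀ g ∈ M, ∀ n ∈ T, g * n * g⁻¹ ∈ T) → ∀ u ∈ T, z * u = u * z) : SUg p y := by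
  intro M hM hyM A B hA hB hAc hBc
  have hzM : z ∈ M := (zpowers_le.2 hyM) hzy
  have key : ∀ u ∈ M, orderOf u = p → u ∈ zpowers z := by
    intro u huM hu
    have hz' : orderOf (⟨z, hzM⟩ : M) = p ^ 1 := by rw [orderOf_mk, hz, pow_one]
    have key := solv_unique (G := M) hp le_rfl hz' (fun t ht htp T hT hTt u hu => ?_) (fun u v hu hv huv => ?_)
      ⟨u, huM⟩ (by rw [orderOf_mk, hu])
    · obtain ⟨k, hk⟩ := mem_zpowers_iff.1 key
      exact mem_zpowers_iff.2 ⟨k, congrArg Subtype.val hk⟩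
    · rw [Nat.sub_self, pow_zero, pow_one]
      have h3 := h M hM hyM t ht htp (T.map M.subtype) (by
        rintro _ ⟨u, hu, rfl⟩
        exact u.2) (hTt.map _) (by
        rintro g hg _ ⟨u, hu, rfl⟩
        exact ⟨⟨g, hg⟩ * u * ⟨g, hg⟩⁻¹, hT.conj_mem u hu _, rfl⟩) u ⟨u, hu, rfl⟩
      exact Subtype.ext h3
    · have h1 := comm_of_not_sq hp h2 u v (by rw [orderOf_coe, hu]) (by rw [orderOf_coe, hv])
        (congrArg Subtype.val huv)
      obtain ⟨k, hk⟩ := mem_zpowers_iff.1 h1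
      exact mem_zpowers_iff.2 ⟨k, Subtype.ext hk⟩
  rw [eq_zpowers_of hp hz hAc fun u hu => key u (hA hu), eq_zpowers_of hp hz hBc fun u hu => key u (hB hu)]

theorem card_modEq_cent {p : ℕ} (hp : p.Prime) {z : G} (hz : orderOf z = p) (T : Subgroup G)
    (hzT : ∀ n ∈ T, z * n * z⁻¹ ∈ T) : Nat.card T ≡ Nat.card ↥(T ⊓ centralizer {z}) [MOD p] := by
  have : Fact p.Prime := ⟨hp⟩
  have h1 : z ∈ normalizer (T : Set G) := by
    rw [mem_normalizer_iff_map_conj_eq]
    refine eq_of_le_of_card_ge ?_ (le_of_eq (card_map_of_injective (MulAut.conj z).injective).symm)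
    rintro _ ⟨v, hv, rfl⟩
    exact hzT v hv
  have hn : ∀ g : zpowers z, ∀ n : T, (g : G) * n * (g : G)⁻¹ ∈ T := fun g n =>
    (mem_normalizer_iff.1 ((zpowers_le.2 h1) g.2) n).1 n.2
  let act : MulAction (zpowers z) T :=
    { smul := fun g n => ⟨(g : G) * n * (g : G)⁻¹, hn g n⟩
      one_smul := fun n => Subtype.ext (by
        show (1 : G) * n * (1 : G)⁻¹ = n
        group)
      mul_smul := fun g g' n => Subtype.ext (by
        show ((g : G) * g') * n * ((g : G) * g')⁻¹ = g * (g' * n * (g' : G)⁻¹) * (g : G)⁻¹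
        group) }
  have hP : IsPGroup p (zpowers z) := IsPGroup.of_card (n := 1) (by rw [Nat.card_zpowers, hz, pow_one])
  have h2 := hP.card_modEq_card_fixedPoints T
  have h3 : Nat.card (MulAction.fixedPoints (zpowers z) T) = Nat.card ↥(T ⊓ centralizer {z}) := by
    refine Nat.card_congr
      { toFun := fun n => ⟨n.1.1, n.1.2, ?_⟩
        invFun := fun n => ⟨⟨n.1, n.2.1⟩, ?_⟩
        left_inv := fun n => rfl
        right_inv := fun n => rfl }
    · have h4 := congrArg Subtype.val (n.2 ⟨z, mem_zpowers z⟩)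
      have h5 : z * n.1.1 * z⁻¹ = n.1.1 := h4
      show n.1.1 ∈ centralizer {z}
      rw [mem_centralizer_singleton_iff]
      exact (mul_inv_eq_iff_eq_mul.1 h5).symm
    · have h4 : n.1 * z = z * n.1 := mem_centralizer_singleton_iff.1 n.2.2
      rintro ⟨g, hg⟩
      apply Subtype.ext
      show g * n.1 * g⁻¹ = n.1
      obtain ⟨i, rfl⟩ := mem_zpowers_iff.1 hg
      have h5 : Commute z n.1 := h4.symm
      rw [(h5.zpow_left i).eq, mul_inv_cancel_right]
  rw [h3] at h2
  exact h2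

/-- `z` centralises `T` or `t ^ e |C_T(z)|` divides `|T|`. -/
theorem cent_or_dvd {p t : ℕ} (hp : p.Prime) (ht : t.Prime) (htp : t ≠ p) {z : G} (hz : orderOf z = p) (T : Subgroup G)
    (hT : IsPGroup t T) (hzT : ∀ n ∈ T, z * n * z⁻¹ ∈ T) :
    (∀ u ∈ T, z * u = u * z) ∨ t ^ orderOf ((t : ℕ) : ZMod p) * Nat.card ↥(T ⊓ centralizer {z}) ∣ Nat.card T := by
  have : Fact p.Prime := ⟨hp⟩
  have : Fact t.Prime := ⟨ht⟩
  obtain ⟨k, hk⟩ := IsPGroup.iff_card.1 hT
  have hC : IsPGroup t ↥(T ⊓ centralizer {z}) := hT.to_le inf_le_left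
  obtain ⟨j, hj⟩ := IsPGroup.iff_card.1 hC
  have hjk : j ≤ k := by
    have h1 := Subgroup.card_dvd_of_le (inf_le_left : T ⊓ centralizer {z} ≤ T)
    rw [hk, hj] at h1
    exact (Nat.pow_dvd_pow_iff_le_right ht.one_lt).1 h1
  by_cases hjk' : j = k
  · left
    have h1 : T ⊓ centralizer {z} = T := eq_of_le_of_card_ge inf_le_left (by rw [hk, hj, hjk'])
    intro u hu
    rw [← h1] at hu
    exact (mem_centralizer_singleton_iff.1 hu.2).symm
  · right
    have h1 := card_modEq_cent hp hz T hzT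
    rw [hk, hj] at h1
    have h2 : p ∣ t ^ k - t ^ j := (Nat.modEq_iff_dvd' (Nat.pow_le_pow_right ht.pos hjk)).1 h1.symm
    have h3 : t ^ k - t ^ j = t ^ j * (t ^ (k - j) - 1) := by
      rw [Nat.mul_sub, mul_one, ← pow_add, Nat.add_sub_cancel' hjk]
    rw [h3] at h2
    have h4 : p ∣ t ^ (k - j) - 1 := ((Nat.Prime.dvd_mul hp).1 h2).resolve_left fun h =>
      htp ((Nat.prime_dvd_prime_iff_eq hp ht).1 (hp.dvd_of_dvd_pow h)).symm
    rw [Cfsg.Agent.Lib.Zsigmondy.dvd_pow_sub_one_iff ht.one_lt.le] at h4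
    rw [hk, hj, ← pow_add]
    apply pow_dvd_pow
    have := Nat.le_of_dvd (by omega) h4
    omega

end Cfsg.Agent.H479.AS
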