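import Cfsg.Agent.H479.AS.SpFourMat
import Cfsg.Agent.H479.AS.Sug
import Cfsg.Agent.H479.AS.AntiCnt
import Cfsg.Agent.H518.SUSpSix
import Cfsg.Agent.S0271
import Cfsg.Agent.S0245
import Cfsg.Agent.TwoFusion.StarLemma

/-!
# `AS2` for `PSp_4(3)` (helper479)

`y` regular unipotent of order 9: a solvable subgroup containing `y` fixes the point or the line of `y`.
-/

set_option autoImplicit false
set_option linter.unusedSectionVars false

namespace Cfsg.Agent.H479.AS.SpFour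

open Module Matrix Cfsg.Agent.H518.DghpFix Cfsg.Agent.H518.DghpMat Cfsg.Agent.H518.SU Cfsg.Agent.Lib.Cores

abbrev F3 := ZMod 3

abbrev Gp := Matrix.symplecticGroup (Fin 2) (ZMod 3)

instance factThree : Fact (Nat.Prime 3) := ⟨Nat.prime_three⟩

/-- the point -/
def W1 : Submodule F3 V4 where
  carrier := {v | v (Sum.inl 1) = 0 ∧ v (Sum.inr 0) = 0 ∧ v (Sum.inr 1) = 0}
  zero_mem' := ⟨rfl, rfl, rfl⟩
  add_mem' := fun {a b} ha hb => by
    refine ⟨?_, ?_, ?_⟩
    · rw [Pi.add_apply, ha.1, hb.1, add_zero]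
    · rw [Pi.add_apply, ha.2.1, hb.2.1, add_zero]
    · rw [Pi.add_apply, ha.2.2, hb.2.2, add_zero]
  smul_mem' := fun c a ha => by
    refine ⟨?_, ?_, ?_⟩
    · rw [Pi.smul_apply, ha.1, smul_zero]
    · rw [Pi.smul_apply, ha.2.1, smul_zero]
    · rw [Pi.smul_apply, ha.2.2, smul_zero]

/-- the line -/
def W2 : Submodule F3 V4 where
  carrier := {v | v (Sum.inr 0) = 0 ∧ v (Sum.inr 1) = 0}
  zero_mem' := ⟨rfl, rfl⟩
  add_mem' := fun {a b} ha hb => by
    refine ⟨?_, ?_⟩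
    · rw [Pi.add_apply, ha.1, hb.1, add_zero]
    · rw [Pi.add_apply, ha.2, hb.2, add_zero]
  smul_mem' := fun c a ha => by
    refine ⟨?_, ?_⟩
    · rw [Pi.smul_apply, ha.1, smul_zero]
    · rw [Pi.smul_apply, ha.2, smul_zero]

/-- the plane -/
def W3 : Submodule F3 V4 where
  carrier := {v | v (Sum.inr 0) = 0}
  zero_mem' := rfl
  add_mem' := fun {a b} ha hb => by
    show (a + b) (Sum.inr 0) = 0
    rw [Pi.add_apply, show a (Sum.inr 0) = 0 from ha, show b (Sum.inr 0) = 0 from hb, add_zero]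
  smul_mem' := fun c a ha => by
    show (c • a) (Sum.inr 0) = 0
    rw [Pi.smul_apply, show a (Sum.inr 0) = 0 from ha, smul_zero]

theorem finrank_le_of {k : ℕ} (W : Submodule F3 V4) (g : Fin k → Ix)
    (h : ∀ v ∈ W, (∀ i, v (g i) = 0) → v = 0) : finrank F3 W ≤ k := by
  let f : W →ₗ[F3] (Fin k → F3) := (LinearMap.funLeft F3 F3 g).comp W.subtype
  have hf : Function.Injective f := by
    rw [← LinearMap.ker_eq_bot, LinearMap.ker_eq_bot']
    intro v hv
    exact Subtype.ext (h v v.2 fun i => congrFun hv i)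
  have h1 := LinearMap.finrank_le_finrank_of_injective hf
  rwa [finrank_fin_fun] at h1

theorem vec_ext {v : V4} (h1 : v (Sum.inl 0) = 0) (h2 : v (Sum.inl 1) = 0) (h3 : v (Sum.inr 0) = 0)
    (h4 : v (Sum.inr 1) = 0) : v = 0 := by
  funext i
  rcases i with i | i
  · fin_cases i
    · exact h1
    · exact h2
  · fin_cases i
    · exact h3
    · exact h4

theorem finrank_W1 : finrank F3 W1 ≤ 1 := finrank_le_of W1 ![Sum.inl 0] fun _ hv h =>
  vec_ext (h 0) hv.1 hv.2.1 hv.2.2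

theorem finrank_W2 : finrank F3 W2 ≤ 2 := finrank_le_of W2 ![Sum.inl 0, Sum.inl 1] fun _ hv h =>
  vec_ext (h 0) (h 1) hv.1 hv.2

theorem finrank_W3 : finrank F3 W3 ≤ 3 := finrank_le_of W3 ![Sum.inl 0, Sum.inl 1, Sum.inr 1] fun _ hv h =>
  vec_ext (h 0) (h 1) hv (h 2)

theorem ker_two (v : V4) (h : (Y0 - 1) ^ 2 *ᵥ v = 0) : v ∈ W2 := by
  rw [n_two] at h
  have h1 := congrFun h (Sum.inl 0)
  have h2 := congrFun h (Sum.inl 1)
  show v (Sum.inr 0) = 0 ∧ v (Sum.inr 1) = 0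
  revert h1 h2
  simp only [mulVec, dotProduct, Fintype.sum_sum_type, Fin.sum_univ_two]
  generalize v (Sum.inl 0) = a
  generalize v (Sum.inl 1) = b
  generalize v (Sum.inr 0) = c
  generalize v (Sum.inr 1) = d
  revert a b c d
  decide

theorem ker_three (v : V4) (h : (Y0 - 1) ^ 3 *ᵥ v = 0) : v ∈ W3 := by
  rw [n_three] at h
  have h1 := congrFun h (Sum.inl 0)
  show v (Sum.inr 0) = 0
  revert h1
  simp only [mulVec, dotProduct, Fintype.sum_sum_type, Fin.sum_univ_two]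
  generalize v (Sum.inl 0) = a
  generalize v (Sum.inl 1) = b
  generalize v (Sum.inr 0) = c
  generalize v (Sum.inr 1) = d
  revert a b c d
  decide

/-- `(y - 1) ^ dim U = 0` on an invariant subspace `U` -/
theorem pow_ker {U : Submodule F3 V4} (hU : ∀ v ∈ U, Y0 *ᵥ v ∈ U) :
    ∀ v ∈ U, (Y0 - 1) ^ finrank F3 U *ᵥ v = 0 := by
  let n : V4 →ₗ[F3] V4 := Matrix.toLin' (Y0 - 1)
  have hn : ∀ v ∈ U, n v ∈ U := by
    intro v hv
    show (Y0 - 1) *ᵥ v ∈ U
    rw [sub_mulVec, one_mulVec]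
    exact U.sub_mem (hU v hv) hv
  let n' : U →ₗ[F3] U := n.restrict hn
  have hpow : ∀ (k : ℕ) (v : U), ((n' ^ k) v : V4) = (Y0 - 1) ^ k *ᵥ (v : V4) := by
    intro k
    induction k with
    | zero => intro v; simp
    | succ k ih =>
      intro v
      rw [pow_succ, Module.End.mul_apply, ih, pow_succ, ← mulVec_mulVec]
      rfl
  have h1 : n'.charpoly = Polynomial.X ^ finrank F3 U := by
    rw [LinearMap.charpoly_eq_X_pow_iff]
    intro m
    refine ⟨4, Subtype.ext ?_⟩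
    rw [hpow, n_four, zero_mulVec]
    rfl
  have h2 := n'.aeval_self_charpoly
  rw [h1, map_pow, Polynomial.aeval_X] at h2
  intro v hv
  rw [← hpow _ ⟨v, hv⟩, h2]
  rfl

theorem sp_eq (u v : V4) : spB 2 F3 u v = (u (Sum.inr 0) * v (Sum.inl 0) - u (Sum.inl 0) * v (Sum.inr 0)) +
    (u (Sum.inr 1) * v (Sum.inl 1) - u (Sum.inl 1) * v (Sum.inr 1)) := by
  rw [spB_eq, Fin.sum_univ_two]

theorem sp_isom (g : Gp) (u v : V4) : spB 2 F3 (g.1 *ᵥ u) (g.1 *ᵥ v) = spB 2 F3 u v := spB_isom 2 g u v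

theorem mulVec_inv_cancel (g : Gp) (v : V4) : g.1 *ᵥ (g⁻¹.1 *ᵥ v) = v := by
  rw [mulVec_mulVec]
  have : g.1 * g⁻¹.1 = (g * g⁻¹).1 := rfl
  rw [this, mul_inv_cancel]
  exact one_mulVec v

theorem inv_mulVec_cancel (g : Gp) (v : V4) : g⁻¹.1 *ᵥ (g.1 *ᵥ v) = v := by
  rw [mulVec_mulVec]
  have : g⁻¹.1 * g.1 = (g⁻¹ * g).1 := rfl
  rw [this, inv_mul_cancel]
  exact one_mulVec v

/-- a subgroup fixing the plane fixes the point -/
theorem fix_one_of_three {M : Subgroup Gp} (h : ∀ m ∈ M, ∀ v ∈ W3, m.1 *ᵥ v ∈ W3) :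
    ∀ m ∈ M, ∀ v ∈ W1, m.1 *ᵥ v ∈ W1 := by
  intro m hm v hv
  have key : ∀ u ∈ W3, spB 2 F3 (m.1 *ᵥ v) u = 0 := by
    intro u hu
    rw [← mulVec_inv_cancel m u, sp_isom]
    have h1 : (m⁻¹.1 *ᵥ u) (Sum.inr 0) = 0 := h m⁻¹ (inv_mem hm) u hu
    rw [sp_eq, h1, hv.2.1, hv.2.2, hv.1]
    ring
  refine ⟨?_, ?_, ?_⟩
  · have h1 := key (Pi.single (Sum.inr 1) 1) (by show (Pi.single (Sum.inr 1) 1 : V4) (Sum.inr 0) = 0; decide)
    rw [sp_eq] at h1
    simpa [Pi.single_apply] using h1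
  · have h1 := key (Pi.single (Sum.inl 0) 1) (by show (Pi.single (Sum.inl 0) 1 : V4) (Sum.inr 0) = 0; decide)
    rw [sp_eq] at h1
    simpa [Pi.single_apply] using h1
  · have h1 := key (Pi.single (Sum.inl 1) 1) (by show (Pi.single (Sum.inl 1) 1 : V4) (Sum.inr 0) = 0; decide)
    rw [sp_eq] at h1
    simpa [Pi.single_apply] using h1

/-- `y` -/
def y : Gp := ⟨Y0, by rw [SymplecticGroup.mem_iff]; exact symp_y⟩

/-- invariant subspaces of `y` -/
theorem inv_sub {U : Submodule F3 V4} (hU : ∀ v ∈ U, Y0 *ᵥ v ∈ U) :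
    U = ⊥ ∨ U = W1 ∨ U = W2 ∨ U = W3 ∨ U = ⊤ := by
  have h1 : finrank F3 U ≤ finrank F3 V4 := Submodule.finrank_le U
  have h4 : finrank F3 V4 = 4 := finrank_sum_fin
  rw [h4] at h1
  have h2 := pow_ker hU
  have h3 : finrank F3 U = 0 ∨ finrank F3 U = 1 ∨ finrank F3 U = 2 ∨ finrank F3 U = 3 ∨ finrank F3 U = 4 := by
    omega
  rcases h3 with h | h | h | h | h
  · exact Or.inl (Submodule.finrank_eq_zero.1 h)
  · right; left
    rw [h, pow_one] at h2
    exact Submodule.eq_of_le_of_finrank_le (fun v hv => ker_one v (h2 v hv)) (by rw [h]; exact finrank_W1)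
  · right; right; left
    rw [h] at h2
    exact Submodule.eq_of_le_of_finrank_le (fun v hv => ker_two v (h2 v hv)) (by rw [h]; exact finrank_W2)
  · right; right; right; left
    rw [h] at h2
    exact Submodule.eq_of_le_of_finrank_le (fun v hv => ker_three v (h2 v hv)) (by rw [h]; exact finrank_W3)
  · right; right; right; right
    exact Submodule.eq_top_of_finrank_eq (by rw [h, h4])

/-- a subgroup containing `y` is irreducible or fixes the point or the line -/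
theorem inv_cases4 {M : Subgroup Gp} (hy : y ∈ M) {U : Submodule F3 V4} (hU : ∀ m ∈ M, ∀ v ∈ U, m.1 *ᵥ v ∈ U) :
    U = ⊥ ∨ U = ⊤ ∨ (∀ m ∈ M, ∀ v ∈ W1, m.1 *ᵥ v ∈ W1) ∨ (∀ m ∈ M, ∀ v ∈ W2, m.1 *ᵥ v ∈ W2) := by
  rcases inv_sub (U := U) (fun v hv => hU y hy v hv) with h | h | h | h | h
  · exact Or.inl h
  · right; right; left
    rwa [h] at hU
  · right; right; right
    rwa [h] at hU
  · right; right; left
    rw [h] at hU
    exact fix_one_of_three hU
  · exact Or.inr (Or.inl h)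

theorem z_val : (y ^ 3 : Gp).1 = Z0 := by
  rw [SubmonoidClass.coe_pow]
  exact y_three

theorem ord_z : orderOf (y ^ 3 : Gp) = 3 := by
  apply orderOf_eq_prime
  · apply Subtype.ext
    rw [SubmonoidClass.coe_pow, z_val]
    exact z_three
  · intro h
    exact z_ne (z_val.symm.trans (congrArg Subtype.val h))

theorem ord_y : orderOf (y : Gp) = 3 ^ 2 := by
  apply orderOf_eq_prime_pow
  · intro h
    rw [pow_one] at h
    have := ord_z
    rw [h, orderOf_one] at this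
    omega
  · rw [show 3 ^ (1 + 1) = 3 * 3 by norm_num, pow_mul]
    have h := pow_orderOf_eq_one (y ^ 3 : Gp)
    rw [ord_z] at h
    exact h

theorem c0_apply (i : Ix) : c0 i = if i = Sum.inl 0 then 1 else 0 := by
  unfold c0
  rw [Pi.single_apply]

theorem sp_c0 (v : V4) : spB 2 F3 v c0 = v (Sum.inr 0) := by
  rw [sp_eq]
  simp [c0_apply]

theorem z_mulVec (v : V4) : Z0 *ᵥ v = v + (2 * v (Sum.inr 0)) • c0 := by
  funext i
  unfold Z0
  simp only [mulVec, dotProduct, Fintype.sum_sum_type, Fin.sum_univ_two, Pi.add_apply, Pi.smul_apply, smul_eq_mul,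
    c0_apply]
  rcases i with i | i <;> fin_cases i <;> simp

/-- the stabiliser of the vector `e_0` -/
def P0 : Subgroup Gp where
  carrier := {g | g.1 *ᵥ c0 = c0}
  one_mem' := one_mulVec _
  mul_mem' := fun {a b} ha hb => by
    show (a.1 * b.1) *ᵥ c0 = c0
    rw [← mulVec_mulVec, show b.1 *ᵥ c0 = c0 from hb, show a.1 *ᵥ c0 = c0 from ha]
  inv_mem' := fun {a} ha => by
    show a⁻¹.1 *ᵥ c0 = c0
    conv_lhs => rw [← show a.1 *ᵥ c0 = c0 from ha]
    exact inv_mulVec_cancel a c0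

theorem gp_ext {g h : Gp} (H : ∀ v, g.1 *ᵥ v = h.1 *ᵥ v) : g = h := by
  apply Subtype.ext
  exact Matrix.ext_of_mulVec_single fun i => H _

theorem P0_le : P0 ≤ Subgroup.centralizer {y ^ 3} := by
  intro g hg
  have hg' : g.1 *ᵥ c0 = c0 := hg
  rw [Subgroup.mem_centralizer_singleton_iff]
  apply gp_ext
  intro v
  show (g.1 * (y ^ 3 : Gp).1) *ᵥ v = ((y ^ 3 : Gp).1 * g.1) *ᵥ v
  rw [← mulVec_mulVec, ← mulVec_mulVec, z_val, z_mulVec, z_mulVec, mulVec_add, mulVec_smul, hg']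
  have h1 : (g.1 *ᵥ v) (Sum.inr 0) = v (Sum.inr 0) := by
    have h2 := sp_isom g v c0
    rwa [hg', sp_c0, sp_c0] at h2
  rw [h1]

/-- the action on vectors -/
@[reducible] def actV : MulAction Gp V4 where
  smul g v := g.1 *ᵥ v
  one_smul v := one_mulVec v
  mul_smul a b v := (mulVec_mulVec v a.1 b.1).symm

theorem card_V4 : Nat.card V4 = 81 := by
  rw [Nat.card_eq_fintype_card, Fintype.card_fun, Fintype.card_sum, Fintype.card_fin, ZMod.card]
  norm_num

theorem P0_index : P0.index = 80 := by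
  let act := actV
  have h1 : MulAction.stabilizer Gp c0 = P0 := rfl
  have h2 : MulAction.orbit Gp c0 = {v | v ≠ 0} := by
    ext v
    constructor
    · rintro ⟨g, rfl⟩ h
      have h3 : g.1 *ᵥ c0 = 0 := h
      have h4 := inv_mulVec_cancel g c0
      rw [h3, mulVec_zero] at h4
      have h5 := congrFun h4 (Sum.inl 0)
      rw [c0_apply, if_pos rfl] at h5
      exact absurd h5 (by decide)
    · intro h
      obtain ⟨g, hg⟩ := Cfsg.Agent.S0271.result 2 c0 v (fun h4 => by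
        have h5 := congrFun h4 (Sum.inl 0)
        rw [c0_apply, if_pos rfl] at h5
        exact absurd h5 (by decide)) h
      exact ⟨g, hg⟩
  rw [← h1, MulAction.index_stabilizer, h2]
  have h3 : ({v | v ≠ 0} : Set V4) = {0}ᶜ := rfl
  have h4 := Set.ncard_add_ncard_compl ({0} : Set V4)
  rw [Set.ncard_singleton, card_V4] at h4
  rw [h3]
  omega

theorem card_Gp : Nat.card Gp = 51840 := by
  rw [Cfsg.Agent.S0245.result (ZMod.card 3) 2]
  simp only [Finset.prod_range_succ, Finset.prod_range_zero]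
  norm_num

section

variable {G : Type*} [Group G] [Finite G]

theorem nine_aux : ∀ k < 9, k ≠ 0 → ∃ m, (k * m) % 9 = 3 := by
  intro k hk hk0
  have : k = 1 ∨ k = 2 ∨ k = 3 ∨ k = 4 ∨ k = 5 ∨ k = 6 ∨ k = 7 ∨ k = 8 := by omega
  rcases this with rfl | rfl | rfl | rfl | rfl | rfl | rfl | rfl
  · exact ⟨3, rfl⟩
  · exact ⟨6, rfl⟩
  · exact ⟨1, rfl⟩
  · exact ⟨3, rfl⟩
  · exact ⟨6, rfl⟩
  · exact ⟨2, rfl⟩
  · exact ⟨3, rfl⟩
  · exact ⟨6, rfl⟩

/-- orbits of an element of order 9 -/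
theorem card_modEq_nine {y : G} (hy : orderOf y = 9) (T : Subgroup G) (hyT : ∀ n ∈ T, y * n * y⁻¹ ∈ T) :
    Nat.card T ≡ Nat.card ↥(T ⊓ Subgroup.centralizer {y ^ 3}) [MOD 9] := by
  classical
  have h1 : y ∈ Subgroup.normalizer (T : Set G) := by
    rw [Subgroup.mem_normalizer_iff_map_conj_eq]
    refine Subgroup.eq_of_le_of_card_ge ?_ (le_of_eq (Subgroup.card_map_of_injective (MulAut.conj y).injective).symm)
    rintro _ ⟨v, hv, rfl⟩
    exact hyT v hv
  let X := {n : G // n ∈ T ∧ n ∉ Subgroup.centralizer {y ^ 3}}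
  have hcomm : ∀ g : Subgroup.zpowers y, (g : G) * y ^ 3 = y ^ 3 * g := by
    rintro ⟨_, i, rfl⟩
    exact ((Commute.refl y).zpow_left i).pow_right 3
  have hn : ∀ g : Subgroup.zpowers y, ∀ n : X, (g : G) * n * (g : G)⁻¹ ∈ T ∧
      (g : G) * n * (g : G)⁻¹ ∉ Subgroup.centralizer {y ^ 3} := by
    intro g n
    refine ⟨(Subgroup.mem_normalizer_iff.1 ((Subgroup.zpowers_le.2 h1) g.2) n).1 n.2.1, fun h => n.2.2 ?_⟩
    rw [Subgroup.mem_centralizer_singleton_iff] at h ⊢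
    have h2 := hcomm g
    have h3 : (g : G)⁻¹ * y ^ 3 = y ^ 3 * (g : G)⁻¹ := by
      rw [inv_mul_eq_iff_eq_mul, ← mul_assoc, h2, mul_inv_cancel_right]
    have h4 : (g : G) * (n.1 * y ^ 3) * (g : G)⁻¹ = (g : G) * (y ^ 3 * n.1) * (g : G)⁻¹ := by
      calc (g : G) * (n.1 * y ^ 3) * (g : G)⁻¹ = (g : G) * n.1 * (y ^ 3 * (g : G)⁻¹) := by group
        _ = (g : G) * n.1 * ((g : G)⁻¹ * y ^ 3) := by rw [h3]
        _ = (g : G) * n.1 * (g : G)⁻¹ * y ^ 3 := by group
        _ = y ^ 3 * ((g : G) * n.1 * (g : G)⁻¹) := h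
        _ = (y ^ 3 * (g : G)) * n.1 * (g : G)⁻¹ := by group
        _ = ((g : G) * y ^ 3) * n.1 * (g : G)⁻¹ := by rw [h2]
        _ = (g : G) * (y ^ 3 * n.1) * (g : G)⁻¹ := by group
    exact mul_left_cancel (mul_right_cancel h4)
  let act : MulAction (Subgroup.zpowers y) X :=
    { smul := fun g n => ⟨(g : G) * n * (g : G)⁻¹, hn g n⟩
      one_smul := fun n => Subtype.ext (by
        show (1 : G) * n * (1 : G)⁻¹ = n
        group)
      mul_smul := fun g g' n => Subtype.ext (by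
        show ((g : G) * g') * n * ((g : G) * g')⁻¹ = g * (g' * n * (g' : G)⁻¹) * (g : G)⁻¹
        group) }
  have hfree : ∀ (g : Subgroup.zpowers y) (n : X), g • n = n → g = 1 := by
    intro g n hgn
    by_contra hne
    have h2 : (g : G) * n.1 * (g : G)⁻¹ = n.1 := congrArg Subtype.val hgn
    have h3 : Commute (g : G) n.1 := mul_inv_eq_iff_eq_mul.1 h2
    obtain ⟨k, hk, hk'⟩ := Finset.mem_image.1 ((mem_zpowers_iff_mem_range_orderOf).1 g.2)
    rw [Finset.mem_range, hy] at hk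
    have hk0 : k ≠ 0 := by
      rintro rfl
      apply hne
      apply Subtype.ext
      rw [← hk', pow_zero]
      rfl
    obtain ⟨m, hm⟩ := nine_aux k hk hk0
    have h4 : (g : G) ^ m = y ^ 3 := by
      rw [← hk', ← pow_mul, ← Nat.div_add_mod (k * m) 9, hm, pow_add, pow_mul]
      rw [← hy, pow_orderOf_eq_one, one_pow, one_mul]
    apply n.2.2
    rw [Subgroup.mem_centralizer_singleton_iff]
    have h5 := (h3.pow_left m).symm
    rw [h4] at h5
    exact h5
  have h2 := Cfsg.Agent.TwoFusion.StarLemma.card_dvd_of_free hfree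
  rw [Nat.card_zpowers, hy] at h2
  have h3 : Nat.card T = Nat.card ↥(T ⊓ Subgroup.centralizer {y ^ 3}) + Nat.card X := by
    have h4 := Set.ncard_inter_add_ncard_sdiff_eq_ncard (T : Set G) (Subgroup.centralizer {y ^ 3} : Set G)
    rw [← Nat.card_coe_set_eq, ← Nat.card_coe_set_eq, ← Nat.card_coe_set_eq] at h4
    exact h4.symm
  rw [h3]
  exact ((Nat.modEq_zero_iff_dvd.2 h2).add_left _)

end

/-- the central involution -/
def mz : Gp := ⟨-1, SymplecticGroup.neg_mem (Submonoid.one_mem _)⟩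

theorem mz_comm (g : Gp) : mz * g = g * mz := by
  apply Subtype.ext
  show (-1 : Mt) * g.1 = g.1 * (-1 : Mt)
  rw [neg_one_mul, mul_neg_one]

/-- normal 2-subgroups are centralised by the transvection -/
theorem two_core {T : Subgroup Gp} (hT : IsPGroup 2 T) (hyT : ∀ n ∈ T, y * n * y⁻¹ ∈ T) (hneg : mz ∈ T) :
    ∀ u ∈ T, (y ^ 3 : Gp) * u = u * y ^ 3 := by
  have : Fact (Nat.Prime 2) := ⟨Nat.prime_two⟩
  have h1 := card_modEq_nine ord_y T hyT
  obtain ⟨k, hk⟩ := IsPGroup.iff_card.1 hT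
  obtain ⟨j, hj⟩ := IsPGroup.iff_card.1 (hT.to_le (inf_le_left : T ⊓ Subgroup.centralizer {(y ^ 3 : Gp)} ≤ T))
  have hk7 : k ≤ 7 := by
    by_contra hcon
    have h2 : 2 ^ k ∣ 51840 := by rw [← hk, ← card_Gp]; exact Subgroup.card_subgroup_dvd_card T
    have h3 : 2 ^ 8 ∣ 51840 := (pow_dvd_pow 2 (by omega)).trans h2
    norm_num at h3
  have hjk : j ≤ k := by
    have h2 := Subgroup.card_dvd_of_le (inf_le_left : T ⊓ Subgroup.centralizer {(y ^ 3 : Gp)} ≤ T)
    rw [hk, hj] at h2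
    exact (Nat.pow_dvd_pow_iff_le_right (by norm_num)).1 h2
  rw [hk, hj] at h1
  have h2 : j = k ∨ 64 * 2 ^ j ≤ 2 ^ k := by
    have hj7 : j ≤ 7 := hjk.trans hk7
    clear hk hj
    interval_cases k <;> interval_cases j <;> first | exact Or.inl rfl | (right; norm_num; done) |
      (exfalso; revert h1; decide)
  rcases h2 with h2 | h2
  · have h3 : T ⊓ Subgroup.centralizer {(y ^ 3 : Gp)} = T :=
      Subgroup.eq_of_le_of_card_ge inf_le_left (by rw [hk, hj, h2])
    intro u hu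
    rw [← h3] at hu
    exact (Subgroup.mem_centralizer_singleton_iff.1 hu.2).symm
  · exfalso
    have h3 : T ⊓ P0 ≤ T ⊓ Subgroup.centralizer {(y ^ 3 : Gp)} := inf_le_inf_left _ P0_le
    have h4 : 2 * Nat.card ↥(T ⊓ P0) ≤ Nat.card ↥(T ⊓ Subgroup.centralizer {(y ^ 3 : Gp)}) := by
      obtain ⟨c, hc⟩ := Subgroup.card_dvd_of_le h3
      have hc0 : 0 < Nat.card ↥(T ⊓ Subgroup.centralizer {(y ^ 3 : Gp)}) := Nat.card_pos
      have hc1 : c ≠ 1 := by
        rintro rfl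
        rw [mul_one] at hc
        have h5 := Subgroup.eq_of_le_of_card_ge h3 (le_of_eq hc)
        have h6 : mz ∈ T ⊓ Subgroup.centralizer {(y ^ 3 : Gp)} :=
          ⟨hneg, Subgroup.mem_centralizer_singleton_iff.2 (mz_comm _)⟩
        rw [← h5] at h6
        have h7 : (-1 : Mt) *ᵥ c0 = c0 := h6.2
        exact absurd h7 (by decide)
      have hc2 : c ≠ 0 := by
        rintro rfl
        rw [mul_zero] at hc
        omega
      rw [hc, mul_comm]
      exact Nat.mul_le_mul_left _ (by omega)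
    have h5 : Nat.card ↥(T ⊓ P0) * (T ⊓ P0).relIndex T = Nat.card T := by
      rw [← Subgroup.relIndex_bot_left, ← Subgroup.relIndex_bot_left T]
      exact Subgroup.relIndex_mul_relIndex _ _ _ bot_le inf_le_left
    have h6 : (T ⊓ P0).relIndex T ≤ 80 := by
      rw [Subgroup.inf_relIndex_left, ← P0_index, ← Subgroup.relIndex_top_right]
      exact Subgroup.relIndex_le_of_le_right le_top (by
        rw [Subgroup.relIndex_top_right, P0_index]; norm_num)
    have h7 : 0 < Nat.card ↥(T ⊓ P0) := Nat.card_pos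
    rw [hj] at h4
    rw [hk] at h5
    have h8 : Nat.card ↥(T ⊓ P0) * (T ⊓ P0).relIndex T ≤ Nat.card ↥(T ⊓ P0) * 80 := Nat.mul_le_mul_left _ h6
    omega

section

variable {G : Type*} [Group G] [Finite G]

/-- the Fitting argument -/
theorem exists_core {M : Subgroup G} (hM : Group.IsSolvable M) {p : ℕ} (hp : p.Prime) {z : G} (hz : orderOf z = p)
    (hzM : z ∈ M)
    (h : ∀ t : ℕ, t.Prime → t ≠ p → ∀ T : Subgroup G, IsPGroup t T → (∀ g ∈ M, ∀ n ∈ T, g * n * g⁻¹ ∈ T) →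
      (∀ N : Subgroup G, N ≤ M → IsPGroup t N → (∀ g ∈ M, ∀ n ∈ N, g * n * g⁻¹ ∈ N) → N ≤ T) → ∀ u ∈ T, z * u = u * z) :
    ∃ T : Subgroup G, IsPGroup p T ∧ (∀ g ∈ M, ∀ n ∈ T, g * n * g⁻¹ ∈ T) ∧ T ≠ ⊥ := by
  have hpf : Fact p.Prime := ⟨hp⟩
  have hTM : ∀ t : ℕ, ∀ g ∈ M, ∀ n ∈ (Cfsg.pCore t M).map M.subtype, g * n * g⁻¹ ∈ (Cfsg.pCore t M).map M.subtype := by
    rintro t g hg _ ⟨u, hu, rfl⟩
    exact ⟨⟨g, hg⟩ * u * ⟨g, hg⟩⁻¹, (Cfsg.Agent.Lib.Cores.pCore_normal t).conj_mem u hu _, rfl⟩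
  have hTP : ∀ t : ℕ, t.Prime → IsPGroup t ((Cfsg.pCore t M).map M.subtype) := fun t ht =>
    (pCore_isPGroup t).map _
  refine ⟨(Cfsg.pCore p M).map M.subtype, hTP p hp, hTM p, fun hbot => ?_⟩
  have h3 : Cfsg.pCore p M = ⊥ := (Subgroup.map_eq_bot_iff_of_injective _ M.subtype_injective).1 hbot
  have hz' : (⟨z, hzM⟩ : M) ∈ Cfsg.fittingSubgroup M := by
    apply Cfsg.Agent.S0044.result
    rw [fittingSubgroup_eq_iSup_pCore, Subgroup.mem_centralizer_iff]
    intro u hu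
    have hle : (⨆ t : Nat.Primes, Cfsg.pCore (t : ℕ) M) ≤ Subgroup.centralizer {(⟨z, hzM⟩ : M)} := by
      refine iSup_le fun t => ?_
      intro u hu
      rw [Subgroup.mem_centralizer_singleton_iff]
      by_cases htp : (t : ℕ) = p
      · rw [htp, h3, Subgroup.mem_bot] at hu
        rw [hu, one_mul, mul_one]
      · refine Subtype.ext (h t t.2 htp _ (hTP t t.2) (hTM t) (fun N hNM hN hNn => ?_) u ⟨u, hu, rfl⟩).symm
        have h4 : (N.subgroupOf M).Normal := ⟨fun n hn g => hNn g g.2 n hn⟩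
        have h5 := Subgroup.map_mono (f := M.subtype) (le_pCore h4 (hN.comap_subtype))
        rwa [Subgroup.subgroupOf_map_subtype, inf_eq_left.2 hNM] at h5
    exact (Subgroup.mem_centralizer_singleton_iff.1 (hle hu))
  have h4 := mem_pCore_of_mem_fitting (p := p) (k := 1) (by
    rw [pow_one]
    apply Subtype.ext
    show z ^ p = 1
    rw [← hz, pow_orderOf_eq_one]) hz'
  rw [h3, Subgroup.mem_bot] at h4
  rw [show z = 1 from congrArg Subtype.val h4, orderOf_one] at hz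
  exact hp.one_lt.ne hz

theorem zpowers_invol {w : G} (hw : w ^ 2 = 1) : IsPGroup 2 (Subgroup.zpowers w) := by
  intro g
  refine ⟨1, ?_⟩
  obtain ⟨i, hi⟩ := Subgroup.mem_zpowers_iff.1 g.2
  apply Subtype.ext
  rw [pow_one, Subgroup.coe_pow, ← hi, ← zpow_natCast, ← _root_.zpow_mul, mul_comm,
    _root_.zpow_mul, zpow_natCast]
  rw [hw, _root_.one_zpow]
  rfl

end

theorem mz_sq : mz ^ 2 = 1 := by
  apply Subtype.ext
  show (-1 : Mt) ^ 2 = 1
  rw [neg_one_sq]

/-- **a solvable subgroup containing `y` fixes the point or the line of `y`** -/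
theorem solv_fix {M : Subgroup Gp} (hM : Group.IsSolvable M) (hy : y ∈ M) (hmz : mz ∈ M) :
    (∀ m ∈ M, ∀ v ∈ W1, m.1 *ᵥ v ∈ W1) ∨ (∀ m ∈ M, ∀ v ∈ W2, m.1 *ᵥ v ∈ W2) := by
  by_contra hcon
  have hirr : ∀ U : Submodule F3 V4, (∀ m ∈ M, ∀ v ∈ U, m.1 *ᵥ v ∈ U) → U = ⊥ ∨ U = ⊤ := by
    intro U hU
    rcases inv_cases4 hy hU with h | h | h | h
    · exact Or.inl h
    · exact Or.inr h
    · exact absurd (Or.inl h) hcon
    · exact absurd (Or.inr h) hcon
  have hφ : Function.Injective (matRep (spHom 2 F3)) := matRep_injective (spHom_injective _ _)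
  have hzM : (y ^ 3 : Gp) ∈ M := pow_mem hy 3
  obtain ⟨T, hTP, hTM, hT0⟩ := exists_core hM Nat.prime_three ord_z hzM (by
    intro t ht ht3 T hT hTM hmax
    by_cases ht2 : t = 2
    · subst ht2
      refine fun u hu => two_core hT (hTM y hy) ?_ u hu
      refine hmax (Subgroup.zpowers mz) (Subgroup.zpowers_le.2 hmz) (zpowers_invol mz_sq) ?_
        (Subgroup.mem_zpowers _)
      rintro g - _ ⟨i, rfl⟩
      have h7 : Commute g mz := (mz_comm _).symm
      have h8 : g * mz ^ i * g⁻¹ = mz ^ i := by rw [(h7.zpow_right i).eq, mul_inv_cancel_right]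
      exact ⟨i, h8.symm⟩
    · rcases cent_or_dvd Nat.prime_three ht ht3 ord_z T hT (hTM _ hzM) with h5 | h5
      · exact h5
      · exfalso
        have h6 := h5.trans (Subgroup.card_subgroup_dvd_card _)
        rw [card_Gp] at h6
        have h3 : ((t : ℕ) : ZMod 3) ≠ 0 := by
          intro h
          rw [ZMod.natCast_eq_zero_iff] at h
          exact ht3 ((Nat.prime_dvd_prime_iff_eq Nat.prime_three ht).1 h).symm
        have h0 : orderOf ((t : ℕ) : ZMod 3) ≠ 0 := by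
          intro h
          rw [orderOf_eq_zero_iff'] at h
          exact h 2 (by norm_num) (ZMod.pow_card_sub_one_eq_one h3)
        have h7 : t ∣ 51840 := (dvd_pow_self t h0).trans ((Dvd.intro _ rfl).trans h6)
        have h8 : t = 5 := by
          have h9 : t ∣ 2 ^ 7 * (3 ^ 4 * 5) := by norm_num; exact h7
          rcases (Nat.Prime.dvd_mul ht).1 h9 with h | h
          · exact absurd ((Nat.prime_dvd_prime_iff_eq ht Nat.prime_two).1 (ht.dvd_of_dvd_pow h)) ht2
          rcases (Nat.Prime.dvd_mul ht).1 h with h | h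
          · exact absurd ((Nat.prime_dvd_prime_iff_eq ht Nat.prime_three).1 (ht.dvd_of_dvd_pow h)) ht3
          · exact (Nat.prime_dvd_prime_iff_eq ht (by norm_num)).1 h
        subst h8
        have h9 : orderOf ((5 : ℕ) : ZMod 3) = 2 := by
          have : Fact (Nat.Prime 2) := ⟨Nat.prime_two⟩
          exact orderOf_eq_prime (by decide) (by decide)
        rw [h9] at h6
        have h10 : 5 ^ 2 ∣ 51840 := (Dvd.intro _ rfl).trans h6
        norm_num at h10)
  have h1 := fixSub_inf_ne_bot (matRep (spHom 2 F3)) Nat.prime_three (by rw [ZMod.card]) hTP ⊤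
    (fun _ _ _ _ => trivial) (by
    intro h
    have h1 : finrank F3 (⊤ : Submodule F3 V4) = 0 := by rw [h, finrank_bot]
    rw [finrank_top, show finrank F3 V4 = 4 from finrank_sum_fin] at h1
    omega)
  rw [top_inf_eq] at h1
  have h2 : fixSub (matRep (spHom 2 F3)) T = ⊤ := by
    refine (hirr (fixSub (matRep (spHom 2 F3)) T) fun m hm => fixSub_invariant fun n hn => ?_).resolve_left h1
    have := hTM m⁻¹ (inv_mem hm) n hn
    rwa [inv_inv] at this
  apply hT0
  rw [eq_bot_iff]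
  intro u hu
  rw [Subgroup.mem_bot]
  apply gp_ext
  intro v
  have h4 : v ∈ fixSub (matRep (spHom 2 F3)) T := by rw [h2]; trivial
  exact (h4 u hu).trans (one_mulVec v).symm

end Cfsg.Agent.H479.AS.SpFour
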