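import Cfsg.Agent.H479.AS.SpFour

/-!
# Counting flags of `Sp_4(3)` (helper479)
-/

set_option autoImplicit false
set_option linter.unusedSectionVars false

namespace Cfsg.Agent.H479.AS.SpFour

open Module Matrix Cfsg.Agent.H518.DghpFix Cfsg.Agent.H518.DghpMat Cfsg.Agent.H518.SU

section Count

theorem sp_nondeg {x : V4} (h : ∀ v, spB 2 F3 x v = 0) : x = 0 := by
  have h1 := h (Pi.single (Sum.inl 0) 1)
  have h2 := h (Pi.single (Sum.inl 1) 1)
  have h3 := h (Pi.single (Sum.inr 0) 1)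
  have h4 := h (Pi.single (Sum.inr 1) 1)
  rw [sp_eq] at h1 h2 h3 h4
  apply vec_ext
  · simpa [Pi.single_apply] using h3
  · simpa [Pi.single_apply] using h4
  · simpa [Pi.single_apply] using h1
  · simpa [Pi.single_apply] using h2

theorem sp_anti (u v : V4) : spB 2 F3 u v = - spB 2 F3 v u := by
  rw [sp_eq, sp_eq]
  ring

/-- eigenspaces -/
def Eg (A : Mt) (ε : F3) : Submodule F3 V4 where
  carrier := {v | A *ᵥ v = ε • v}
  zero_mem' := by
    show A *ᵥ 0 = ε • 0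
    rw [mulVec_zero, smul_zero]
  add_mem' := fun {a b} ha hb => by
    show A *ᵥ (a + b) = ε • (a + b)
    rw [mulVec_add, show A *ᵥ a = ε • a from ha, show A *ᵥ b = ε • b from hb, smul_add]
  smul_mem' := fun c a ha => by
    show A *ᵥ (c • a) = ε • (c • a)
    rw [mulVec_smul, show A *ᵥ a = ε • a from ha, smul_comm]

theorem finrank_V4 : finrank F3 V4 = 4 := finrank_sum_fin

theorem f3_cases : ∀ a : F3, a = 0 ∨ a = 1 ∨ a = -1 := by decide

theorem f3_two : ∀ a : F3, a = -a → a = 0 := by decide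

theorem Eg_inf (A : Mt) {ε : F3} (hε : ε ≠ 0) : Eg A ε ⊓ Eg A (-ε) = ⊥ := by
  rw [eq_bot_iff]
  rintro v ⟨h1, h2⟩
  have h1' : A *ᵥ v = ε • v := h1
  have h2' : A *ᵥ v = (-ε) • v := h2
  rw [h1'] at h2'
  rw [Submodule.mem_bot]
  funext i
  have h3 := congrFun h2' i
  rw [Pi.smul_apply, Pi.smul_apply, smul_eq_mul, smul_eq_mul, neg_mul] at h3
  exact (mul_eq_zero.1 (f3_two _ h3)).resolve_left hε

/-- a similitude with a three-dimensional eigenspace has no other eigenvectors -/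
theorem Eg_three {A : Mt} {μ : F3} (hμ : μ ≠ 0) (hA : ∀ u v, spB 2 F3 (A *ᵥ u) (A *ᵥ v) = μ * spB 2 F3 u v) {ε : F3}
    (hε : ε ≠ 0) (h3 : finrank F3 (Eg A ε) = 3) : Eg A (-ε) = ⊥ := by
  rw [eq_bot_iff]
  intro w hw
  rw [Submodule.mem_bot]
  by_contra hw0
  have hwE : w ∉ Eg A ε := by
    intro h
    have h1 : w ∈ Eg A ε ⊓ Eg A (-ε) := ⟨h, hw⟩
    rw [Eg_inf A hε, Submodule.mem_bot] at h1
    exact hw0 h1
  have htop : Eg A ε ⊔ Submodule.span F3 {w} = ⊤ := by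
    apply Submodule.eq_top_of_finrank_eq
    have h1 : finrank F3 (Eg A ε) < finrank F3 ↥(Eg A ε ⊔ Submodule.span F3 {w}) := by
      apply Submodule.finrank_lt_finrank_of_lt
      refine lt_of_le_of_ne le_sup_left fun h => hwE ?_
      rw [h]
      exact Submodule.mem_sup_right (Submodule.mem_span_singleton_self w)
    have h2 : finrank F3 ↥(Eg A ε ⊔ Submodule.span F3 {w}) ≤ finrank F3 V4 := Submodule.finrank_le _
    rw [finrank_V4] at h2 ⊢
    omega
  have hperp : ∀ x : V4, (∀ u ∈ Eg A ε, spB 2 F3 x u = 0) → spB 2 F3 x w = 0 → x = 0 := by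
    intro x h1 h2
    apply sp_nondeg
    intro v
    obtain ⟨u, hu, t, ht, rfl⟩ := Submodule.mem_sup.1 (show v ∈ Eg A ε ⊔ Submodule.span F3 {w} by rw [htop]; trivial)
    obtain ⟨c, rfl⟩ := Submodule.mem_span_singleton.1 ht
    unfold spB at h1 h2 ⊢
    rw [mulVec_add, dotProduct_add, h1 u hu, zero_add, mulVec_smul, dotProduct_smul, h2, smul_zero]
  have hsq : ε * ε = 1 := by
    rcases f3_cases ε with h | h | h
    · exact absurd h hε
    · rw [h]; decide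
    · rw [h]; decide
  have hAu : ∀ u ∈ Eg A ε, A *ᵥ u = ε • u := fun u hu => hu
  have hAw : A *ᵥ w = (-ε) • w := hw
  have hsmul : ∀ (a b : F3) (u v : V4), spB 2 F3 (a • u) (b • v) = a * b * spB 2 F3 u v := by
    intro a b u v
    rw [sp_eq, sp_eq]
    simp only [Pi.smul_apply, smul_eq_mul]
    ring
  rcases f3_cases μ with h | h | h
  · exact hμ h
  · -- `μ = 1`
    apply hw0
    refine hperp w (fun u hu => ?_) (spB_self 2 w)
    have h4 := hA w u
    rw [hAu u hu, hAw, hsmul, neg_mul, hsq, h, one_mul, neg_one_mul] at h4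
    exact f3_two _ h4.symm
  · -- `μ = -1`
    have h5 : ∀ u ∈ Eg A ε, ∀ u' ∈ Eg A ε, spB 2 F3 u u' = 0 := by
      intro u hu u' hu'
      have h4 := hA u u'
      rw [hAu u hu, hAu u' hu', hsmul, hsq, h, one_mul, neg_one_mul] at h4
      exact f3_two _ h4
    let f : Eg A ε →ₗ[F3] F3 :=
      { toFun := fun u => spB 2 F3 u w
        map_add' := fun a b => by
          show spB 2 F3 ((a : V4) + b) w = _
          unfold spB
          rw [add_dotProduct]
        map_smul' := fun c a => by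
          show spB 2 F3 (c • (a : V4)) w = _
          unfold spB
          rw [smul_dotProduct, RingHom.id_apply] }
    have h6 := LinearMap.finrank_range_add_finrank_ker f
    have h7 : finrank F3 (LinearMap.range f) ≤ 1 := by
      have := Submodule.finrank_le (LinearMap.range f)
      rwa [finrank_self] at this
    rw [h3] at h6
    have h8 : LinearMap.ker f ≠ ⊥ := by
      intro h9
      rw [h9, finrank_bot] at h6
      omega
    obtain ⟨u, hu, hu0⟩ := (Submodule.ne_bot_iff _).1 h8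
    apply hu0
    exact Subtype.ext (hperp u (fun u' hu' => h5 u u.2 u' hu') hu)

/-- the number of eigenvectors -/
theorem ncard_eig {A : Mt} {μ : F3} (hμ : μ ≠ 0) (hA : ∀ u v, spB 2 F3 (A *ᵥ u) (A *ᵥ v) = μ * spB 2 F3 u v)
    (h1 : A ≠ 1) (h2 : A ≠ -1) : ({v | v ≠ 0 ∧ ∃ c : F3, A *ᵥ v = c • v} : Set V4).ncard ≤ 26 := by
  have hfull : ∀ ε : F3, finrank F3 (Eg A ε) = 4 → A = ε • 1 := by
    intro ε h
    have h3 : Eg A ε = ⊤ := Submodule.eq_top_of_finrank_eq (by rw [h, finrank_V4])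
    refine Matrix.ext_of_mulVec_single fun i => ?_
    have h4 : (Pi.single i 1 : V4) ∈ Eg A ε := by rw [h3]; trivial
    rw [show A *ᵥ (Pi.single i 1 : V4) = ε • (Pi.single i 1 : V4) from h4, smul_mulVec, one_mulVec]
  have ha4 : finrank F3 (Eg A 1) ≠ 4 := fun h => h1 (by rw [hfull 1 h, one_smul])
  have hb4 : finrank F3 (Eg A (-1)) ≠ 4 := fun h => h2 (by rw [hfull (-1) h, neg_one_smul])
  have hle : ∀ ε, finrank F3 (Eg A ε) ≤ 4 := fun ε => by
    have := Submodule.finrank_le (Eg A ε)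
    rwa [finrank_V4] at this
  have hab : finrank F3 (Eg A 1) + finrank F3 (Eg A (-1)) ≤ 4 := by
    have h3 := Submodule.finrank_sup_add_finrank_inf_eq (Eg A 1) (Eg A (-1))
    rw [Eg_inf A one_ne_zero, finrank_bot, add_zero] at h3
    rw [← h3]
    have := Submodule.finrank_le (Eg A 1 ⊔ Eg A (-1))
    rwa [finrank_V4] at this
  have ha3 : finrank F3 (Eg A 1) = 3 → finrank F3 (Eg A (-1)) = 0 := fun h => by
    rw [Eg_three hμ hA one_ne_zero h, finrank_bot]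
  have hb3 : finrank F3 (Eg A (-1)) = 3 → finrank F3 (Eg A 1) = 0 := fun h => by
    have h3 := Eg_three hμ hA (ε := -1) (by decide) h
    rw [neg_neg] at h3
    rw [h3, finrank_bot]
  have hcard : ∀ ε, ((Eg A ε : Set V4) \ {0}).ncard = 3 ^ finrank F3 (Eg A ε) - 1 := by
    intro ε
    have h3 : Nat.card (Eg A ε) = 3 ^ finrank F3 (Eg A ε) := by
      rw [Module.natCard_eq_pow_finrank (K := F3), Nat.card_zmod]
    have h4 : ((Eg A ε : Set V4)).ncard = 3 ^ finrank F3 (Eg A ε) := h3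
    rw [Set.ncard_sdiff_singleton_of_mem (Submodule.zero_mem _), h4]
  have hsub : ({v | v ≠ 0 ∧ ∃ c : F3, A *ᵥ v = c • v} : Set V4) ⊆
      (Eg A 0 : Set V4) \ {0} ∪ (((Eg A 1 : Set V4) \ {0}) ∪ ((Eg A (-1) : Set V4) \ {0})) := by
    rintro v ⟨hv, c, hc⟩
    rcases f3_cases c with rfl | rfl | rfl
    · exact Or.inl ⟨hc, hv⟩
    · exact Or.inr (Or.inl ⟨hc, hv⟩)
    · exact Or.inr (Or.inr ⟨hc, hv⟩)
  have h0 : (Eg A 0 : Set V4) \ {0} = ∅ := by
    rw [Set.eq_empty_iff_forall_notMem]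
    rintro v ⟨hv, hv0⟩
    apply hv0
    have h3 : A *ᵥ v = 0 := by
      have h4 : A *ᵥ v = (0 : F3) • v := hv
      rwa [zero_smul] at h4
    apply sp_nondeg
    intro u
    have h4 := hA v u
    rw [h3] at h4
    have h5 : spB 2 F3 0 (A *ᵥ u) = 0 := by unfold spB; rw [zero_dotProduct]
    rw [h5] at h4
    exact (mul_eq_zero.1 h4.symm).resolve_left hμ
  rw [h0, Set.empty_union] at hsub
  refine (Set.ncard_le_ncard hsub (Set.toFinite _)).trans ((Set.ncard_union_le _ _).trans ?_)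
  rw [hcard, hcard]
  generalize finrank F3 (Eg A 1) = a at *
  generalize finrank F3 (Eg A (-1)) = b at *
  have ha : a ≤ 3 := by omega
  have hb : b ≤ 3 := by omega
  interval_cases a <;> interval_cases b <;> first | (norm_num; done) | (exfalso; omega)

/-- the vector `g⁻¹ A g e_0` -/
def vec (A : Mt) (g : Gp) : V4 := g⁻¹.1 *ᵥ (A *ᵥ (g.1 *ᵥ c0))

theorem mem_W1_iff {v : V4} : v ∈ W1 ↔ ∃ c : F3, v = c • c0 := by
  constructor
  · rintro ⟨h1, h2, h3⟩
    refine ⟨v (Sum.inl 0), ?_⟩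
    rw [← sub_eq_zero]
    apply vec_ext
    · simp [c0_apply]
    · simp [c0_apply, h1]
    · simp [c0_apply, h2]
    · simp [c0_apply, h3]
  · rintro ⟨c, rfl⟩
    refine ⟨?_, ?_, ?_⟩ <;> simp [c0_apply]

theorem c0_ne : c0 ≠ 0 := by
  intro h
  have h5 := congrFun h (Sum.inl 0)
  rw [c0_apply, if_pos rfl] at h5
  exact absurd h5 (by decide)

theorem count_one {A : Mt} {μ : F3} (hμ : μ ≠ 0) (hA : ∀ u v, spB 2 F3 (A *ᵥ u) (A *ᵥ v) = μ * spB 2 F3 u v)
    (h1 : A ≠ 1) (h2 : A ≠ -1) : 3 * ({g | vec A g ∈ W1} : Set Gp).ncard < Nat.card Gp := by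
  have hb := ncard_le_of_fiber ({g | vec A g ∈ W1} : Set Gp) (fun g => g.1 *ᵥ c0)
    ({v | v ≠ 0 ∧ ∃ c : F3, A *ᵥ v = c • v} : Set V4) (Nat.card P0) (fun g hg => by
      refine ⟨fun h => ?_, ?_⟩
      · have h4 := inv_mulVec_cancel g c0
        rw [h, mulVec_zero] at h4
        exact c0_ne h4.symm
      · obtain ⟨c, hc⟩ := mem_W1_iff.1 hg
        refine ⟨c, ?_⟩
        have h3 : g.1 *ᵥ (vec A g) = A *ᵥ (g.1 *ᵥ c0) := mulVec_inv_cancel g _
        rw [← h3, hc, mulVec_smul]) (fun v _ => by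
      by_cases hne : ∃ g0 : Gp, g0.1 *ᵥ c0 = v
      · obtain ⟨g0, hg0⟩ := hne
        have h3 : ({a | a ∈ ({g | vec A g ∈ W1} : Set Gp) ∧ a.1 *ᵥ c0 = v} : Set Gp) ⊆ (fun p => g0 * p) '' (P0 : Set Gp) := by
          rintro g ⟨-, hg⟩
          refine ⟨g0⁻¹ * g, ?_, mul_inv_cancel_left _ _⟩
          show (g0⁻¹.1 * g.1) *ᵥ c0 = c0
          rw [← mulVec_mulVec, hg, ← hg0, inv_mulVec_cancel]
        refine (Set.ncard_le_ncard h3 (Set.toFinite _)).trans ?_
        rw [Set.ncard_image_of_injective _ (mul_right_injective g0)]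
        exact le_rfl
      · have h3 : ({a | a ∈ ({g | vec A g ∈ W1} : Set Gp) ∧ a.1 *ᵥ c0 = v} : Set Gp) = ∅ := by
          rw [Set.eq_empty_iff_forall_notMem]
          rintro g ⟨-, hg⟩
          exact hne ⟨g, hg⟩
        rw [h3, Set.ncard_empty]
        exact Nat.zero_le _)
  have h3 := ncard_eig hμ hA h1 h2
  have h4 := P0.card_mul_index
  rw [P0_index] at h4
  have h5 : 0 < Nat.card P0 := Nat.card_pos
  have h6 : Nat.card P0 * ({v | v ≠ 0 ∧ ∃ c : F3, A *ᵥ v = c • v} : Set V4).ncard ≤ Nat.card P0 * 26 :=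
    Nat.mul_le_mul_left _ h3
  omega

/-- the elements moving the line -/
def rr (i : Fin 4) : Gp := ⟨R0 i, by rw [SymplecticGroup.mem_iff]; exact symp_r i⟩

theorem rr_c (i : Fin 4) : (rr i).1 *ᵥ c0 = c0 := r_c i

theorem rri_c (i : Fin 4) : (rr i)⁻¹.1 *ᵥ c0 = c0 := by
  conv_lhs => rw [← rr_c i]
  exact inv_mulVec_cancel _ _

theorem line_coord (i : Fin 4) {v : V4} (hv : v ∈ W2) :
    ((rr i).1 *ᵥ v) (Sum.inl 1) = ![1, 0, 1, 1] i * v (Sum.inl 1) ∧
      ((rr i).1 *ᵥ v) (Sum.inr 1) = ![0, 1, 1, 2] i * v (Sum.inl 1) := by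
  have h1 : (rr i).1 = R0 i := rfl
  rw [h1]
  simp only [mulVec, dotProduct, Fintype.sum_sum_type, Fin.sum_univ_two, hv.1, hv.2]
  generalize v (Sum.inl 0) = a
  generalize v (Sum.inl 1) = b
  revert i a b
  decide

theorem line_sep : ∀ i j : Fin 4, ∀ b b' : F3, (![1, 0, 1, 1] i : F3) * b = ![1, 0, 1, 1] j * b' →
    (![0, 1, 1, 2] i : F3) * b = ![0, 1, 1, 2] j * b' → i = j ∨ b = 0 := by decide

theorem count_two (A : Mt) :
    4 * ({g | vec A g ∈ W2 ∧ vec A g ∉ W1} : Set Gp).ncard + ({g | vec A g ∈ W1} : Set Gp).ncard ≤ Nat.card Gp := by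
  have hvec : ∀ (g : Gp) (i : Fin 4), vec A (g * (rr i)⁻¹) = (rr i).1 *ᵥ vec A g := by
    intro g i
    unfold vec
    have h1 : (g * (rr i)⁻¹)⁻¹ = rr i * g⁻¹ := by rw [_root_.mul_inv_rev, inv_inv]
    rw [h1]
    show ((rr i).1 * g⁻¹.1) *ᵥ (A *ᵥ ((g.1 * (rr i)⁻¹.1) *ᵥ c0)) = _
    rw [← mulVec_mulVec, ← mulVec_mulVec, rri_c]
  have hW1 : ∀ (i : Fin 4) (v : V4), (rr i).1 *ᵥ v ∈ W1 → v ∈ W1 := by
    intro i v h
    obtain ⟨c, hc⟩ := mem_W1_iff.1 h
    refine mem_W1_iff.2 ⟨c, ?_⟩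
    rw [← inv_mulVec_cancel (rr i) v, hc, mulVec_smul, rri_c]
  let f : ({g | vec A g ∈ W2 ∧ vec A g ∉ W1} : Set Gp) × Fin 4 → (({g | vec A g ∈ W1} : Set Gp)ᶜ : Set Gp) :=
    fun x => ⟨x.1.1 * (rr x.2)⁻¹, fun h => x.1.2.2 (hW1 x.2 _ (by
      rw [← hvec]
      exact h))⟩
  have hf : Function.Injective f := by
    rintro ⟨g, i⟩ ⟨h, j⟩ hgh
    have h1 : g.1 * (rr i)⁻¹ = h.1 * (rr j)⁻¹ := congrArg Subtype.val hgh
    have h2 : (rr i).1 *ᵥ vec A g = (rr j).1 *ᵥ vec A h := by rw [← hvec, ← hvec, h1]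
    have h3 := line_coord i g.2.1
    have h4 := line_coord j h.2.1
    rw [h2] at h3
    have h5 : i = j := by
      rcases line_sep i j _ _ (h3.1.symm.trans h4.1) (h3.2.symm.trans h4.2) with h6 | h6
      · exact h6
      · exact absurd (show vec A g ∈ W1 from ⟨h6, g.2.1.1, g.2.1.2⟩) g.2.2
    subst h5
    have h6 : g = h := Subtype.ext (mul_right_cancel h1)
    rw [h6]
  have h1 := Nat.card_le_card_of_injective f hf
  rw [Nat.card_prod, Nat.card_fin, Nat.card_coe_set_eq, Nat.card_coe_set_eq] at h1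
  have h2 := Set.ncard_add_ncard_compl ({g | vec A g ∈ W1} : Set Gp)
  omega

theorem W1_le : W1 ≤ W2 := fun _ hv => ⟨hv.2.1, hv.2.2⟩

theorem count_bad {A : Mt} {μ : F3} (hμ : μ ≠ 0) (hA : ∀ u v, spB 2 F3 (A *ᵥ u) (A *ᵥ v) = μ * spB 2 F3 u v)
    (h1 : A ≠ 1) (h2 : A ≠ -1) : 2 * ({g | vec A g ∈ W2} : Set Gp).ncard < Nat.card Gp := by
  have h3 := count_one hμ hA h1 h2
  have h4 := count_two A
  have h5 : ({g | vec A g ∈ W2} : Set Gp) ⊆ {g | vec A g ∈ W2 ∧ vec A g ∉ W1} ∪ {g | vec A g ∈ W1} := by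
    intro g hg
    by_cases h : vec A g ∈ W1
    · exact Or.inr h
    · exact Or.inl ⟨hg, h⟩
  have h6 := (Set.ncard_le_ncard h5 (Set.toFinite _)).trans (Set.ncard_union_le _ _)
  omega

end Count

end Cfsg.Agent.H479.AS.SpFour
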