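import Cfsg.Agent.H479.AS.SpFourCnt
import Cfsg.Agent.H198.SympGamma
import Cfsg.Agent.UGT.U2.Rec.Congr

/-!
# `AS2` for `PSp_4(3)` (helper479): the end
-/

set_option autoImplicit false
set_option linter.unusedSectionVars false

namespace Cfsg.Agent.H479.AS.SpFour

open Module Matrix Cfsg.Agent.H518.DghpFix Cfsg.Agent.H518.DghpMat Cfsg.Agent.H518.SU Cfsg.Agent.H965.AS

/-- preimages of solvable subgroups -/
theorem solv_comap {G H : Type*} [Group G] [Group H] (f : G →* H) (hf : f.ker ≤ Subgroup.center G) {M : Subgroup H}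
    (hM : Group.IsSolvable M) : Group.IsSolvable (M.comap f) := by
  let g : M.comap f →* M := (f.comp (M.comap f).subtype).codRestrict M fun g => g.2
  have hab : ∀ a b : Subgroup.center G, a * b = b * a := fun a b =>
    Subtype.ext (Subgroup.mem_center_iff.1 b.2 a)
  have h1 : Group.IsSolvable g.ker := by
    let k : g.ker →* Subgroup.center G := ((M.comap f).subtype.comp g.ker.subtype).codRestrict _ fun x =>
      hf (congrArg Subtype.val (show g x.1 = 1 from x.2))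
    have hc : Group.IsSolvable (Subgroup.center G) := Group.isSolvable_of_comm hab
    refine Group.isSolvable_of_isSolvable_injective (f := k) ?_
    intro a b h
    have h2 : ((a : M.comap f) : G) = ((b : M.comap f) : G) :=
      congrArg (fun u : Subgroup.center G => (u : G)) h
    exact Subtype.ext (Subtype.ext h2)
  exact Group.isSolvable_of_ker_le_range g.ker.subtype g (by rw [Subgroup.range_subtype])

theorem sp_invariant {B Bi : Mt} (hB : B * Bi = 1) (hBi : Bi * B = 1) {U : Submodule F3 V4} (hc : c0 ∈ U)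
    (h : ∀ v ∈ U, (B * Y0 * Bi) *ᵥ v ∈ U) : B *ᵥ c0 ∈ U := by
  let U' : Submodule F3 V4 := U.comap (Matrix.toLin' B)
  have hmem : ∀ v, v ∈ U' ↔ B *ᵥ v ∈ U := fun v => Iff.rfl
  have h1 : ∀ v ∈ U', Y0 *ᵥ v ∈ U' := by
    intro v hv
    rw [hmem] at hv ⊢
    have h2 := h _ hv
    rwa [mulVec_mulVec, mul_assoc, hBi, mul_one, ← mulVec_mulVec] at h2
  have h2 : U' ≠ ⊥ := by
    intro h3
    have h4 : Bi *ᵥ c0 ∈ U' := by
      rw [hmem, mulVec_mulVec, hB, one_mulVec]
      exact hc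
    rw [h3, Submodule.mem_bot] at h4
    have h5 : B *ᵥ (Bi *ᵥ c0) = c0 := by rw [mulVec_mulVec, hB, one_mulVec]
    rw [h4, mulVec_zero] at h5
    exact c0_ne h5.symm
  have h3 : c0 ∈ U' := by
    have hW1 : c0 ∈ W1 := mem_W1_iff.2 ⟨1, (one_smul _ _).symm⟩
    rcases inv_sub h1 with h | h | h | h | h
    · exact absurd h h2
    · rw [h]; exact hW1
    · rw [h]; exact W1_le hW1
    · rw [h]; exact hW1.2.1
    · rw [h]; trivial
  exact h3

theorem conj_mem {A Ai : Mt} {μ : F3} (hA : ∀ u v, spB 2 F3 (A *ᵥ u) (A *ᵥ v) = μ * spB 2 F3 u v) (h : A * Ai = 1)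
    (s : Gp) : A * s.1 * Ai ∈ Matrix.symplecticGroup (Fin 2) F3 := by
  obtain ⟨g, hg⟩ := exists_sp 2 (z := Matrix.toLin' (A * s.1 * Ai)) (fun u v => by
    show spB 2 F3 ((A * s.1 * Ai) *ᵥ u) ((A * s.1 * Ai) *ᵥ v) = _
    rw [← mulVec_mulVec, ← mulVec_mulVec, ← mulVec_mulVec, ← mulVec_mulVec, hA, sp_isom, ← hA, mulVec_mulVec,
      mulVec_mulVec, h, one_mulVec, one_mulVec])
  have h1 : g.1 = A * s.1 * Ai := Matrix.toLin'.injective hg
  rw [← h1]
  exact g.2

theorem mz_center : mz ∈ Subgroup.center Gp := Subgroup.mem_center_iff.2 fun g => (mz_comm g).symm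

/-- **`AS2` for `PSp_4(3)`**, over `ZMod 3`. -/
theorem as2_zmod : AS2 (Cfsg.PSp 2 F3) := by
  refine of_frames (Ω := Gp) (fun g => (QuotientGroup.mk (g * y * g⁻¹) : Cfsg.PSp 2 F3)) fun x hx => ?_
  obtain ⟨A, σ, ⟨μ, hA⟩, hind⟩ := Cfsg.Agent.H198.SympGamma.exists_pair (F := F3) (m := 2) le_rfl
    (Or.inr (by decide)) x
  have hσ : σ = RingEquiv.refl _ := Subsingleton.elim _ _
  have hAi : (A : Mt) * (A⁻¹ : GL Ix F3).1 = 1 := by
    rw [← Units.val_mul, mul_inv_cancel, Units.val_one]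
  have hiA : (A⁻¹ : GL Ix F3).1 * (A : Mt) = 1 := by
    rw [← Units.val_mul, inv_mul_cancel, Units.val_one]
  have hind' : ∀ s s' : Gp, s'.1 = (A : Mt) * s.1 * (A⁻¹ : GL Ix F3).1 →
      x (QuotientGroup.mk s) = QuotientGroup.mk s' := by
    intro s s' h
    apply hind
    rw [hσ]
    have h1 : s.1.map (RingEquiv.refl F3) = s.1 := by
      ext i j
      rfl
    rw [h1]
    exact h
  have hscal : ∀ c : F3, c * c = 1 → (A : Mt) ≠ c • 1 := by
    intro c hc h
    apply hx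
    ext k
    obtain ⟨s, rfl⟩ := QuotientGroup.mk_surjective k
    refine hind' s s ?_
    rw [h, smul_mul_assoc, one_mul]
    have h1 : (c • (1 : Mt)) * (A⁻¹ : GL Ix F3).1 = 1 := by rw [← h, hAi]
    rw [smul_mul_assoc, one_mul] at h1
    rw [smul_mul_assoc, ← mul_smul_comm, h1, mul_one]
  refine ⟨{g | vec A g ∈ W2}, fun g hg => ?_, count_bad (μ := (μ : F3)) (Units.ne_zero μ) hA (fun h => ?_) fun h => ?_⟩
  · -- solvable pairs are bad
    set L := Subgroup.closure ({x, MulAut.conj (QuotientGroup.mk (g * y * g⁻¹) : Cfsg.PSp 2 F3)} :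
      Set (MulAut (Cfsg.PSp 2 F3))) with hL
    have hxL : x ∈ L := Subgroup.subset_closure (by simp)
    have hyL : MulAut.conj (QuotientGroup.mk (g * y * g⁻¹) : Cfsg.PSp 2 F3) ∈ L := Subgroup.subset_closure (by simp)
    have hM0 : Group.IsSolvable (L.comap (MulAut.conj : Cfsg.PSp 2 F3 →* MulAut (Cfsg.PSp 2 F3))) := by
      refine solv_comap _ ?_ hg
      intro k hk
      rw [Subgroup.mem_center_iff]
      intro a
      have h1 : MulAut.conj k a = a := by
        rw [show MulAut.conj k = 1 from hk]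
        rfl
      rw [MulAut.conj_apply] at h1
      exact (mul_inv_eq_iff_eq_mul.1 h1).symm
    have hM1 := solv_comap (QuotientGroup.mk' (Subgroup.center Gp)) (by rw [QuotientGroup.ker_mk']) hM0
    have hM2 := solv_comap (MulAut.conj g : MulAut Gp).toMonoidHom (by
      intro k hk
      have h1 : MulAut.conj g k = 1 := hk
      rw [MulAut.conj_apply] at h1
      rw [conj_eq_one_iff.1 h1]
      exact one_mem _) hM1
    set M := ((L.comap (MulAut.conj : Cfsg.PSp 2 F3 →* MulAut (Cfsg.PSp 2 F3))).comap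
      (QuotientGroup.mk' (Subgroup.center Gp))).comap (MulAut.conj g : MulAut Gp).toMonoidHom with hM
    have hmem : ∀ m : Gp, m ∈ M ↔ MulAut.conj (QuotientGroup.mk (g * m * g⁻¹) : Cfsg.PSp 2 F3) ∈ L := fun m => Iff.rfl
    have hyM : y ∈ M := hyL
    have hmzM : mz ∈ M := by
      rw [hmem]
      have h1 : g * mz * g⁻¹ = mz := by rw [← mz_comm, mul_inv_cancel_right]
      rw [h1, (QuotientGroup.eq_one_iff mz).2 mz_center, map_one]
      exact one_mem _
    -- the image of `y`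
    have hsymp : (A : Mt) * (g * y * g⁻¹ : Gp).1 * (A⁻¹ : GL Ix F3).1 ∈ Matrix.symplecticGroup (Fin 2) F3 :=
      conj_mem hA hAi _
    have hxy : (MulAut.conj (QuotientGroup.mk (⟨_, hsymp⟩ : Gp) : Cfsg.PSp 2 F3)) ∈ L := by
      rw [← hind' (g * y * g⁻¹) ⟨_, hsymp⟩ rfl]
      have e : (MulAut.conj (x (QuotientGroup.mk (g * y * g⁻¹))) : MulAut (Cfsg.PSp 2 F3)) =
          x * MulAut.conj (QuotientGroup.mk (g * y * g⁻¹)) * x⁻¹ := by
        ext l
        simp
      rw [e]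
      exact mul_mem (mul_mem hxL hyL) (inv_mem hxL)
    have hyM2 : g⁻¹ * ⟨_, hsymp⟩ * g ∈ M := by
      rw [hmem]
      have h1 : g * (g⁻¹ * (⟨_, hsymp⟩ : Gp) * g) * g⁻¹ = ⟨_, hsymp⟩ := by group
      rw [h1]
      exact hxy
    have hW1 : c0 ∈ W1 := mem_W1_iff.2 ⟨1, (one_smul _ _).symm⟩
    have hB : (g⁻¹.1 * (A : Mt) * g.1) * (g⁻¹.1 * (A⁻¹ : GL Ix F3).1 * g.1) = 1 := by
      have h1 : g.1 * g⁻¹.1 = 1 := congrArg Subtype.val (mul_inv_cancel g)
      have h2 : g⁻¹.1 * g.1 = 1 := congrArg Subtype.val (inv_mul_cancel g)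
      calc _ = g⁻¹.1 * (A : Mt) * (g.1 * g⁻¹.1) * (A⁻¹ : GL Ix F3).1 * g.1 := by noncomm_ring
        _ = g⁻¹.1 * ((A : Mt) * (A⁻¹ : GL Ix F3).1) * g.1 := by rw [h1, mul_one]; noncomm_ring
        _ = 1 := by rw [hAi, mul_one, h2]
    have hBi : (g⁻¹.1 * (A⁻¹ : GL Ix F3).1 * g.1) * (g⁻¹.1 * (A : Mt) * g.1) = 1 := by
      have h1 : g.1 * g⁻¹.1 = 1 := congrArg Subtype.val (mul_inv_cancel g)
      have h2 : g⁻¹.1 * g.1 = 1 := congrArg Subtype.val (inv_mul_cancel g)
      calc _ = g⁻¹.1 * (A⁻¹ : GL Ix F3).1 * (g.1 * g⁻¹.1) * (A : Mt) * g.1 := by noncomm_ring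
        _ = g⁻¹.1 * ((A⁻¹ : GL Ix F3).1 * (A : Mt)) * g.1 := by rw [h1, mul_one]; noncomm_ring
        _ = 1 := by rw [hiA, mul_one, h2]
    have hmat : (g⁻¹ * (⟨_, hsymp⟩ : Gp) * g).1 =
        (g⁻¹.1 * (A : Mt) * g.1) * Y0 * (g⁻¹.1 * (A⁻¹ : GL Ix F3).1 * g.1) := by
      show g⁻¹.1 * ((A : Mt) * (g.1 * Y0 * g⁻¹.1) * (A⁻¹ : GL Ix F3).1) * g.1 = _
      noncomm_ring
    have hvec : vec A g = (g⁻¹.1 * (A : Mt) * g.1) *ᵥ c0 := by
      unfold vec
      rw [mulVec_mulVec, mulVec_mulVec, mul_assoc]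
    show vec A g ∈ W2
    rw [hvec]
    rcases solv_fix hM2 hyM hmzM with h | h
    · refine W1_le (sp_invariant hB hBi hW1 fun v hv => ?_)
      rw [← hmat]
      exact h _ hyM2 v hv
    · refine sp_invariant hB hBi (W1_le hW1) fun v hv => ?_
      rw [← hmat]
      exact h _ hyM2 v hv
  · exact hscal 1 (by decide) (by rw [one_smul]; exact h)
  · exact hscal (-1) (by decide) (by rw [neg_one_smul]; exact h)

end Cfsg.Agent.H479.AS.SpFour

namespace Cfsg.Agent.H479.AS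

/-- **`AS2` for `PSp_4(3)`.** -/
theorem as2_psp_four_three {F : Type} [Field F] [Fintype F] (hF : Fintype.card F = 3) :
    Cfsg.Agent.H965.AS.AS2 (Cfsg.PSp 2 F) := by
  let σ : F ≃+* ZMod 3 := (ZMod.ringEquivOfPrime F Nat.prime_three hF).symm
  let e : Matrix.symplecticGroup (Fin 2) F ≃* Matrix.symplecticGroup (Fin 2) (ZMod 3) :=
    { toFun := fun A => ⟨A.1.map σ, SymplecticGroup.map_mem A.2 σ⟩
      invFun := fun A => ⟨A.1.map σ.symm, SymplecticGroup.map_mem A.2 σ.symm⟩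
      left_inv := fun A => by
        apply Subtype.ext
        ext i j
        simp
      right_inv := fun A => by
        apply Subtype.ext
        ext i j
        simp
      map_mul' := fun A B => by
        apply Subtype.ext
        exact Matrix.map_mul }
  obtain ⟨e'⟩ : Nonempty (Cfsg.PSp 2 F ≃* Cfsg.PSp 2 (ZMod 3)) := Cfsg.Agent.UGT.U2.Rec.Congr.quot_center e
  exact SpFour.as2_zmod.congr e'.symm

end Cfsg.Agent.H479.AS
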