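import Cfsg.Agent.H479.AS.SpSixMat
import Cfsg.Agent.H479.AS.Sug
import Cfsg.Agent.H489.AS.KOne
import Cfsg.Agent.H518.SUSpSix
import Cfsg.Agent.S2142

/-!
# `AS2` for `PSp_6(2)` (helper479)

`y` of order 15, `z = y ^ 3`, `V = V2 + V4`, `V2 = C_V(z)`. `z` centralises the normal `t`-subgroups `T`, `t ≠ 5`, of the
solvable subgroups `M` containing `y`: for `t = 2` `C_V(T)` is `V2` or `V4`; for `t = 3` otherwise `|T| = 81`, `C_T(z) = 1`,
but `y ^ 5 ∈ T`.
-/

set_option autoImplicit false
set_option linter.unusedSectionVars false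

universe u v w

namespace Cfsg.Agent.H479.AS

open Module Cfsg.Agent.H518.DghpFix Cfsg.Agent.H518.DghpPrim Cfsg.Agent.H518.DghpMat Cfsg.Agent.H518.SU
  Cfsg.Agent.H489.AS

section

variable {F : Type u} [Field F] [Fintype F] {V : Type v} [AddCommGroup V] [Module F V] [FiniteDimensional F V]
variable {G : Type w} [Group G] [Finite G] {φ : G →* (V →ₗ[F] V)} {p : ℕ} {z : G} {B : V → V → F}

/-- `V2 ⊥ V4` -/
theorem perp_fix_range (hB : Frm B) (hGB : ∀ g u v, B (φ g u) (φ g v) = B u v) {c a : V} (hc : c ∈ fixS (φ z))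
    (ha : a ∈ LinearMap.range (φ z - 1)) : B c a = 0 := by
  obtain ⟨v, rfl⟩ := ha
  have h1 : B c (φ z v) = B c v := by
    conv_lhs => rw [← show φ z c = c from hc]
    exact hGB z c v
  have h2 : B c (v + (φ z - 1) v) = B c v + B c ((φ z - 1) v) := hB.add _ _ _
  have h3 : v + (φ z - 1) v = φ z v := by
    rw [LinearMap.sub_apply, Module.End.one_apply]
    abel
  rw [h3, h1] at h2
  exact (left_eq_add.1 h2)

variable (hφ : Function.Injective φ) (hp : p.Prime) (hpF : ¬ p ∣ Fintype.card F)
  (h2e : finrank F V < 2 * orderOf ((Fintype.card F : ℕ) : ZMod p)) (hz : orderOf z = p)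

include hφ hp hpF h2e hz

/-- vectors perpendicular to `V4` lie in `V2` -/
theorem mem_fix_of_perp (hB : Frm B) (hadd : ∀ x y z, B (x + y) z = B x z + B y z)
    (hGB : ∀ g u v, B (φ g u) (φ g v) = B u v) {x : V}
    (hx : ∀ a ∈ LinearMap.range (φ z - 1), B x a = 0) : x ∈ fixS (φ z) := by
  obtain ⟨-, h2, h3⟩ := facts_of hφ hp hpF h2e hz
  obtain ⟨a, ha, c, hc, rfl⟩ := Submodule.mem_sup.1 (show x ∈ LinearMap.range (φ z - 1) ⊔ fixS (φ z) by rw [h3]; trivial)
  have h4 : a = 0 := by
    apply hB.nondeg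
    intro y
    obtain ⟨b, hb, d, hd, rfl⟩ := Submodule.mem_sup.1 (show y ∈ LinearMap.range (φ z - 1) ⊔ fixS (φ z) by
      rw [h3]; trivial)
    rw [hB.add, hB.symm _ _ (perp_fix_range hB hGB hd ha), add_zero]
    have h5 := hx b hb
    rwa [hadd, perp_fix_range hB hGB hc hb, add_zero] at h5
  rw [h4, zero_add]
  exact hc

/-- vectors perpendicular to `V2` lie in `V4` -/
theorem mem_range_of_perp (hB : Frm B)
    (hGB : ∀ g u v, B (φ g u) (φ g v) = B u v) {x : V}
    (hx : ∀ c ∈ fixS (φ z), B c x = 0) : x ∈ LinearMap.range (φ z - 1) := by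
  obtain ⟨-, h2, h3⟩ := facts_of hφ hp hpF h2e hz
  obtain ⟨a, ha, c, hc, rfl⟩ := Submodule.mem_sup.1 (show x ∈ LinearMap.range (φ z - 1) ⊔ fixS (φ z) by rw [h3]; trivial)
  have h4 : c = 0 := by
    apply hB.nondeg
    intro y
    obtain ⟨b, hb, d, hd, rfl⟩ := Submodule.mem_sup.1 (show y ∈ LinearMap.range (φ z - 1) ⊔ fixS (φ z) by
      rw [h3]; trivial)
    rw [hB.add, perp_fix_range hB hGB hc hb, zero_add]
    have h5 := hx d hd
    rw [hB.add, perp_fix_range hB hGB hd ha, zero_add] at h5
    exact hB.symm _ _ h5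
  rw [h4, add_zero]
  exact ha

/-- invariant subspaces which meet `V2` in `0` or contain it -/
theorem inv_cases (U : Submodule F V) (hU : ∀ v ∈ U, φ z v ∈ U)
    (hU2 : U ⊓ fixS (φ z) = ⊥ ∨ fixS (φ z) ≤ U) :
    U = ⊥ ∨ U = fixS (φ z) ∨ U = LinearMap.range (φ z - 1) ∨ U = ⊤ := by
  obtain ⟨h1, h2, h3⟩ := facts_of hφ hp hpF h2e hz
  have h4 := finrank_fixS hφ hp hpF h2e hz
  have hz0 : φ z ^ p ^ 1 = 1 := by rw [pow_one, ← map_pow, ← hz, pow_orderOf_eq_one, map_one]
  have h5 := finrank_fix hp hpF hz0 U hU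
  have hle : finrank F U ≤ finrank F V := Submodule.finrank_le U
  obtain ⟨e, he⟩ : ∃ e, orderOf ((Fintype.card F : ℕ) : ZMod p) = e := ⟨_, rfl⟩
  rw [he] at h1 h4 h5 h2e
  rcases hU2 with h6 | h6
  · rw [h6, finrank_bot, Nat.sub_zero] at h5
    obtain ⟨k, hk⟩ := h5
    have hk2 : k < 2 := by
      by_contra hcon
      have : e * 2 ≤ e * k := Nat.mul_le_mul_left _ (by omega)
      omega
    have hk' : k = 0 ∨ k = 1 := by omega
    rcases hk' with rfl | rfl
    · exact Or.inl (Submodule.finrank_eq_zero.1 (by omega))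
    right; right; left
    rw [mul_one] at hk
    have h7 : U.map (φ z - 1) ≤ U := by
      rintro _ ⟨v, hv, rfl⟩
      rw [LinearMap.sub_apply, Module.End.one_apply]
      exact U.sub_mem (hU v hv) hv
    have h8 : finrank F (U.map (φ z - 1)) = finrank F U := by
      have h9 : Function.Injective ((φ z - 1).domRestrict U) := by
        rw [← LinearMap.ker_eq_bot, LinearMap.ker_eq_bot']
        intro v hv
        have h10 : (v : V) ∈ U ⊓ fixS (φ z) := by
          refine ⟨v.2, ?_⟩
          have h11 : φ z v - v = 0 := hv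
          exact sub_eq_zero.1 h11
        rw [h6, Submodule.mem_bot] at h10
        exact Subtype.ext h10
      have h10 := LinearMap.finrank_range_of_inj h9
      rwa [LinearMap.range_domRestrict] at h10
    have h9 : U.map (φ z - 1) = U := Submodule.eq_of_le_of_finrank_eq h7 h8
    have h10 : U ≤ LinearMap.range (φ z - 1) := by
      rw [← h9]
      exact LinearMap.map_le_range
    exact Submodule.eq_of_le_of_finrank_eq h10 (by omega)
  · rw [inf_eq_right.2 h6] at h5
    have h7 := Submodule.finrank_mono h6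
    obtain ⟨k, hk⟩ := h5
    have hk2 : k < 2 := by
      by_contra hcon
      have : e * 2 ≤ e * k := Nat.mul_le_mul_left _ (by omega)
      omega
    have hk' : k = 0 ∨ k = 1 := by omega
    rcases hk' with rfl | rfl
    · right; left
      exact (Submodule.eq_of_le_of_finrank_eq h6 (by omega)).symm
    · right; right; right
      exact Submodule.eq_top_of_finrank_eq (by omega)

/-- `z` centralises a normalised `ℓ`-subgroup `T`, `ℓ` the characteristic, if `C_V(T)` is `V2` or `V4`. -/
theorem cent_char (hB : Frm B) (hadd : ∀ x y z, B (x + y) z = B x z + B y z)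
    (hGB : ∀ g u v, B (φ g u) (φ g v) = B u v) {ℓ : ℕ} (hℓ : ℓ.Prime) (hℓF : ℓ ∣ Fintype.card F) {T : Subgroup G}
    (hT : IsPGroup ℓ T) (h : fixSub φ T = ⊤ ∨ fixSub φ T = fixS (φ z) ∨ fixSub φ T = LinearMap.range (φ z - 1)) :
    ∀ u ∈ T, z * u = u * z := by
  obtain ⟨h1, h2, h3⟩ := facts_of hφ hp hpF h2e hz
  intro u hu
  apply hφ
  rw [map_mul, map_mul]
  rcases h with h | h | h
  · have h4 : φ u = 1 := by
      ext v
      have : v ∈ fixSub φ T := by rw [h]; trivial
      exact this u hu
    rw [h4, mul_one, one_mul]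
  · exfalso
    -- `V4` is `T`-invariant
    have hinv : ∀ g ∈ T, ∀ a ∈ LinearMap.range (φ z - 1), φ g a ∈ LinearMap.range (φ z - 1) := by
      intro g hg a ha
      refine mem_range_of_perp hφ hp hpF h2e hz hB hGB fun c hc => ?_
      have h4 : φ g c = c := by
        rw [← h] at hc
        exact hc g hg
      rw [← h4, hGB, perp_fix_range hB hGB hc ha]
    have h4 := fixSub_inf_ne_bot φ hℓ hℓF hT (LinearMap.range (φ z - 1)) hinv (by
      intro h5
      rw [h5, finrank_bot] at h1
      omega)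
    rw [h, h2] at h4
    exact h4 rfl
  · apply LinearMap.ext
    intro x
    obtain ⟨a, ha, c, hc, rfl⟩ := Submodule.mem_sup.1 (show x ∈ LinearMap.range (φ z - 1) ⊔ fixS (φ z) by
      rw [h3]; trivial)
    have hua : ∀ b ∈ LinearMap.range (φ z - 1), φ u b = b := by
      intro b hb
      rw [← h] at hb
      exact hb u hu
    have hza : φ z a ∈ LinearMap.range (φ z - 1) := by
      obtain ⟨w, rfl⟩ := ha
      refine ⟨φ z w, ?_⟩
      simp only [LinearMap.sub_apply, Module.End.one_apply, map_sub]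
    have huc : φ u c ∈ fixS (φ z) := by
      refine mem_fix_of_perp hφ hp hpF h2e hz hB hadd hGB fun b hb => ?_
      rw [← hua b hb, hGB, perp_fix_range hB hGB hc hb]
    rw [Module.End.mul_apply, Module.End.mul_apply, map_add, map_add, map_add, map_add, hua a ha, hua _ hza,
      show φ z c = c from hc, show φ z (φ u c) = φ u c from huc]

omit h2e hz hp hpF hφ in
theorem eq_one_of_ne_zero (hF : Fintype.card F = 2) {t : F} (ht : t ≠ 0) : t = 1 := by
  classical
  have h1 : ({0, 1} : Finset F) = Finset.univ :=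
    Finset.eq_univ_of_card _ (by rw [Finset.card_pair zero_ne_one, hF])
  have h2 : t ∈ ({0, 1} : Finset F) := by rw [h1]; exact Finset.mem_univ t
  rw [Finset.mem_insert, Finset.mem_singleton] at h2
  exact h2.resolve_left ht

omit h2e hz hp hpF hφ in
/-- `U ∩ V2` is trivial or `V2` -/
theorem inf_cases (hF : Fintype.card F = 2) (h2 : finrank F (fixS (φ z)) = 2) {w : G} (hwz : w * z = z * w)
    (hfix : ∀ v, φ z v = v → φ w v = v → v = 0) (U : Submodule F V) (hU : ∀ v ∈ U, φ w v ∈ U) :
    U ⊓ fixS (φ z) = ⊥ ∨ fixS (φ z) ≤ U := by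
  have hw : ∀ v ∈ fixS (φ z), φ w v ∈ fixS (φ z) := fixS_invariant (by rw [← map_mul, ← map_mul, hwz])
  have hle : finrank F ↥(U ⊓ fixS (φ z)) ≤ 2 := h2 ▸ Submodule.finrank_mono inf_le_right
  have hc : finrank F ↥(U ⊓ fixS (φ z)) = 0 ∨ finrank F ↥(U ⊓ fixS (φ z)) = 1 ∨
      finrank F ↥(U ⊓ fixS (φ z)) = 2 := by omega
  rcases hc with h | h | h
  · exact Or.inl (Submodule.finrank_eq_zero.1 h)
  · exfalso
    obtain ⟨c, hc0, hc⟩ := finrank_eq_one_iff'.1 h
    obtain ⟨t, ht⟩ := hc ⟨φ w c, hU _ c.2.1, hw _ c.2.2⟩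
    have ht' : t • (c : V) = φ w c := congrArg Subtype.val ht
    have ht0 : t ≠ 0 := by
      rintro rfl
      rw [zero_smul] at ht'
      apply hc0
      apply Subtype.ext
      have h3 : φ w⁻¹ (φ w c) = c := by
        rw [← Module.End.mul_apply, ← map_mul, inv_mul_cancel, map_one]; rfl
      rw [← h3, ← ht', map_zero]
      rfl
    rw [eq_one_of_ne_zero hF ht0, one_smul] at ht'
    exact hc0 (Subtype.ext (hfix _ c.2.2 ht'.symm))
  · right
    have h3 : U ⊓ fixS (φ z) = fixS (φ z) := Submodule.eq_of_le_of_finrank_eq inf_le_right (by omega)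
    exact inf_eq_right.1 h3

/-- `|K1| ≤ 9` -/
theorem card_K1_le_nine (hF : Fintype.card F = 2) (h2 : finrank F (fixS (φ z)) = 2) : Nat.card (K1 φ z) ≤ 9 := by
  classical
  let b : Basis (Fin 2) F (fixS (φ z)) := finBasisOfFinrankEq F _ h2
  have hV : Finite V := Module.finite_of_finite F
  have hinj : ∀ (g : G) (v : V), φ g v = 0 → v = 0 := by
    intro g v h
    have h3 : φ g⁻¹ (φ g v) = v := by
      rw [← Module.End.mul_apply, ← map_mul, inv_mul_cancel, map_one]; rfl
    rw [← h3, h, map_zero]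
  let f : K1 φ z → (Fin 2 → {x : fixS (φ z) // x ≠ 0}) := fun g i =>
    ⟨⟨φ g (b i), K1_fixS_invariant g.2 _ (b i).2⟩, fun h => b.ne_zero i
      (Subtype.ext (hinj g _ (congrArg Subtype.val h)))⟩
  have hf : Function.Injective f := by
    intro g h hgh
    have h3 : ∀ c ∈ fixS (φ z), φ ((h : G)⁻¹ * g) c = c := by
      intro c hc
      have h4 : ∀ c : fixS (φ z), φ (g : G) (c : V) = φ (h : G) c := by
        intro c
        have h5 : ((φ (g : G)).comp (fixS (φ z)).subtype) = ((φ (h : G)).comp (fixS (φ z)).subtype) := by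
          apply b.ext
          intro i
          have h6 := congrFun hgh i
          exact congrArg (fun u : {x : fixS (φ z) // x ≠ 0} => ((u : fixS (φ z)) : V)) h6
        exact LinearMap.congr_fun h5 c
      rw [map_mul, Module.End.mul_apply, h4 ⟨c, hc⟩, ← Module.End.mul_apply, ← map_mul, inv_mul_cancel, map_one]
      rfl
    have h4 := eq_one_of_mem_K1 hφ hp hpF h2e hz (mul_mem (inv_mem h.2) g.2) h3
    exact Subtype.ext (inv_mul_eq_one.1 h4).symm
  refine (Nat.card_le_card_of_injective f hf).trans ?_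
  have h4 : Nat.card (fixS (φ z)) = 4 := by
    rw [Module.natCard_eq_pow_finrank (K := F), h2, Nat.card_eq_fintype_card, hF]
    norm_num
  have h5 : Nat.card {x : fixS (φ z) // x ≠ 0} = 3 := by
    have := Fintype.ofFinite (fixS (φ z))
    have h6 : Nat.card {x : fixS (φ z) // x = 0} = 1 := Nat.card_eq_one_iff_unique.2
      ⟨⟨fun a b => Subtype.ext (a.2.trans b.2.symm)⟩, ⟨⟨0, rfl⟩⟩⟩
    rw [Nat.card_eq_fintype_card] at h4 h6 ⊢
    rw [Fintype.card_subtype_compl, h6, h4]
  rw [Nat.card_fun, h5, Nat.card_eq_fintype_card, Fintype.card_fin]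
  norm_num

end

section

open Matrix SpSix Cfsg.Agent.H965.AS

theorem ord_three_five : orderOf ((3 : ℕ) : ZMod 5) = 4 :=
  orderOf_eq_of (by norm_num) (by norm_num) (by norm_num) fun i h1 h2 => by interval_cases i <;> norm_num

theorem ord_seven_five : orderOf ((7 : ℕ) : ZMod 5) = 4 :=
  orderOf_eq_of (by norm_num) (by norm_num) (by norm_num) fun i h1 h2 => by interval_cases i <;> norm_num

theorem ord_two_five : orderOf ((2 : ℕ) : ZMod 5) = 4 :=
  orderOf_eq_of (by norm_num) (by norm_num) (by norm_num) fun i h1 h2 => by interval_cases i <;> norm_num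

/-- **`AS2` for `PSp_6(2)`.** -/
theorem as2_psp_six_two {F : Type} [Field F] [Fintype F] (hF : Fintype.card F = 2) [IsSimpleGroup (Cfsg.PSp 3 F)]
    (hna : ¬ IsMulCommutative (Cfsg.PSp 3 F)) : AS2 (Cfsg.PSp 3 F) := by
  classical
  have hpf : Fact (Nat.Prime 2) := ⟨Nat.prime_two⟩
  have hcharP : CharP F 2 := charP_of_card_eq_prime hF
  have h2 : (2 : F) = 0 := by
    have := CharP.cast_eq_zero F 2
    exact_mod_cast this
  have hp5 : Nat.Prime 5 := by norm_num
  have hfinG : Finite (Matrix.symplecticGroup (Fin 3) F) := Subtype.finite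
  have hfinK : Finite (Cfsg.PSp 3 F) := inferInstance
  have hcG : Nat.card (Matrix.symplecticGroup (Fin 3) F) = 1451520 := by
    rw [Cfsg.Agent.S0245.result hF 3]
    simp only [Finset.prod_range_succ, Finset.prod_range_zero]
    norm_num
  have hcZ : Nat.card (Subgroup.center (Matrix.symplecticGroup (Fin 3) F)) = 1 := by
    rw [Cfsg.Agent.S0246.result hF 3 (by norm_num)]
    norm_num
  have hcK : Nat.card (Cfsg.PSp 3 F) = 1451520 := by
    have h6 : Nat.card (Matrix.symplecticGroup (Fin 3) F) =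
        Nat.card (Cfsg.PSp 3 F) * Nat.card (Subgroup.center (Matrix.symplecticGroup (Fin 3) F)) :=
      Subgroup.card_eq_card_quotient_mul_card_subgroup _
    rw [hcZ, hcG, mul_one] at h6
    exact h6.symm
  have hZ : Subgroup.center (Cfsg.PSp 3 F) = ⊥ := by
    rcases (inferInstance : (Subgroup.center (Cfsg.PSp 3 F)).Normal).eq_bot_or_eq_top with h1 | h1
    · exact h1
    · exfalso
      apply hna
      refine ⟨⟨fun a b => ?_⟩⟩
      have : b ∈ Subgroup.center (Cfsg.PSp 3 F) := by rw [h1]; trivial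
      exact Subgroup.mem_center_iff.1 this a
  have hout : Nat.card (Cfsg.Out (Cfsg.PSp 3 F)) = 1 := by
    rw [H163.PG.card_out_psp (f := 1) Nat.prime_two le_rfl (by rw [hF]; rfl) (by norm_num) (fun h => by omega) hZ]
    norm_num
  have hd : finrank F (Fin 3 ⊕ Fin 3 → F) = 6 := finrank_sum_fin
  set φ := matRep (spHom 3 F) with hφdef
  have hφ : Function.Injective φ := matRep_injective (spHom_injective _ _)
  have hB : Frm (spB 3 F) := frm_sp 3 h2
  have hadd : ∀ x y z, spB 3 F (x + y) z = spB 3 F x z + spB 3 F y z := fun x y z => by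
    rw [spB_sym 3 h2 (x + y), spB_sym 3 h2 x, spB_sym 3 h2 y, hB.add]
  have hGB := spB_isom (F := F) 3
  have h5F : ¬ 5 ∣ Fintype.card F := by rw [hF]; norm_num
  have hord : orderOf ((Fintype.card F : ℕ) : ZMod 5) = 4 := by rw [hF]; exact ord_two_five
  have h2e : finrank F (Fin 3 ⊕ Fin 3 → F) < 2 * orderOf ((Fintype.card F : ℕ) : ZMod 5) := by rw [hord, hd]; norm_num
  -- the element
  let f : ZMod 2 →+* F := ZMod.castHom (dvd_refl 2) F
  have hfinj : Function.Injective (f.mapMatrix : Mt (ZMod 2) →+* Mt F) := by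
    intro a b hab
    ext i j
    have h3 : (f.mapMatrix a) i j = (f.mapMatrix b) i j := by rw [hab]
    exact f.injective h3
  have hyJ : f.mapMatrix Y0 * Matrix.J (Fin 3) F * (f.mapMatrix Y0)ᵀ = Matrix.J (Fin 3) F := by
    have h3 : f.mapMatrix (Matrix.J (Fin 3) (ZMod 2)) = Matrix.J (Fin 3) F := by
      unfold Matrix.J
      rw [RingHom.mapMatrix_apply, Matrix.fromBlocks_map]
      congr 1
      · ext i j; simp
      · ext i j
        simp only [Matrix.map_apply, Matrix.neg_apply, Matrix.one_apply]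
        split_ifs
        · rw [map_neg, map_one]
        · rw [map_neg, map_zero]
      · ext i j
        simp [Matrix.one_apply, apply_ite f]
      · ext i j; simp
    have h4 : f.mapMatrix Y0ᵀ = (f.mapMatrix Y0)ᵀ := by
      rw [RingHom.mapMatrix_apply, RingHom.mapMatrix_apply, Matrix.transpose_map]
    rw [← h3, ← h4, ← map_mul, ← map_mul, symp]
  let y : Matrix.symplecticGroup (Fin 3) F := ⟨f.mapMatrix Y0, by rw [SymplecticGroup.mem_iff]; exact hyJ⟩
  have hyv : (y : Mt F) = f.mapMatrix Y0 := rfl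
  have hzv : ((y ^ 3 : Matrix.symplecticGroup (Fin 3) F) : Mt F) = f.mapMatrix Z0 := by
    rw [SubmonoidClass.coe_pow, hyv, ← map_pow, pow_succ, pow_two, yy, yyy]
  have hwv : ((y ^ 5 : Matrix.symplecticGroup (Fin 3) F) : Mt F) = f.mapMatrix W0 := by
    rw [SubmonoidClass.coe_pow, hyv, ← map_pow, show (5 : ℕ) = 3 + 2 by norm_num, pow_add, pow_two, pow_succ, pow_two,
      yy, yyy, zyy]
  have hz : orderOf (y ^ 3) = 5 := by
    have : Fact (Nat.Prime 5) := ⟨hp5⟩
    apply orderOf_eq_prime
    · apply Subtype.ext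
      rw [SubmonoidClass.coe_pow, hzv, ← map_pow, show (5 : ℕ) = 2 + 2 + 1 by norm_num, pow_add, pow_add, pow_one,
        pow_two, zz, zzzzz, map_one]
      rfl
    · intro h
      have h3 := congrArg Subtype.val h
      rw [hzv] at h3
      exact z_ne (hfinj (h3.trans (map_one _).symm))
  have hw : orderOf (y ^ 5) = 3 := by
    have : Fact (Nat.Prime 3) := ⟨Nat.prime_three⟩
    apply orderOf_eq_prime
    · apply Subtype.ext
      rw [SubmonoidClass.coe_pow, hwv, ← map_pow, pow_succ, pow_two, www, map_one]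
      rfl
    · intro h
      have h3 := congrArg Subtype.val h
      rw [hwv] at h3
      exact w_ne (hfinj (h3.trans (map_one _).symm))
  have hfix1 : ∀ v, φ y v = v → v = 0 := by
    intro v hv
    have h3 : (f.mapMatrix Y0) *ᵥ v = v := hv
    have h4 : (f.mapMatrix (Y0 - 1)) *ᵥ v = 0 := by
      rw [map_sub, map_one, sub_mulVec, one_mulVec, h3, sub_self]
    have h5 : (f.mapMatrix (N0 * (Y0 - 1))) *ᵥ v = 0 := by
      rw [map_mul, ← mulVec_mulVec, h4, mulVec_zero]
    rw [ny, map_one, one_mulVec] at h5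
    exact h5
  have hfix : ∀ v, φ (y ^ 3) v = v → φ (y ^ 5) v = v → v = 0 := by
    intro v h3 h5
    apply hfix1
    have h6 : φ (y ^ 6) v = v := by
      rw [show (6 : ℕ) = 3 + 3 by norm_num, pow_add, map_mul, Module.End.mul_apply, h3, h3]
    have h7 : φ (y ^ 6) v = φ y (φ (y ^ 5) v) := by
      rw [show (6 : ℕ) = 1 + 5 by norm_num, pow_add, pow_one, map_mul, Module.End.mul_apply]
    rw [h5] at h7
    rw [← h7, h6]
  have hfr : ∀ z : Matrix.symplecticGroup (Fin 3) F, orderOf z = 5 → finrank F (fixS (φ z)) = 2 := by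
    intro z hz
    have h3 := finrank_fixS hφ hp5 h5F h2e hz
    rw [hord, hd] at h3
    omega
  -- `SUg`
  have hsu : SUg 5 y := by
    refine sug_of hp5 hz (Subgroup.npow_mem_zpowers y 3) (by rw [hcG]; norm_num) ?_
    intro M hM hyM t ht ht5 T hTM hT hTn
    have hzM : y ^ 3 ∈ M := pow_mem hyM 3
    have hwM : y ^ 5 ∈ M := pow_mem hyM 5
    have hfr2 := hfr _ hz
    have hTG : Nat.card T ∣ 1451520 := hcG ▸ Subgroup.card_subgroup_dvd_card T
    by_cases ht2 : t = 2
    · subst ht2
      have hUinv : ∀ g ∈ M, ∀ v ∈ fixSub φ T, φ g v ∈ fixSub φ T := fun g hg => fixSub_invariant fun n hn => by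
        have := hTn g⁻¹ (inv_mem hg) n hn
        rwa [inv_inv] at this
      have hU0 : fixSub φ T ≠ ⊥ := by
        have h3 := fixSub_inf_ne_bot φ Nat.prime_two (by rw [hF]) hT ⊤ (fun _ _ _ _ => trivial) (by
          intro h
          have h1 : finrank F (⊤ : Submodule F (Fin 3 ⊕ Fin 3 → F)) = 0 := by rw [h, finrank_bot]
          rw [finrank_top, hd] at h1
          omega)
        rwa [top_inf_eq] at h3
      have h3 := inf_cases hF hfr2 (w := y ^ 5) (by rw [← pow_add, ← pow_add]) hfix (fixSub φ T)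
        (hUinv _ hwM)
      have h4 := inv_cases hφ hp5 h5F h2e hz (fixSub φ T) (hUinv _ hzM) h3
      refine cent_char hφ hp5 h5F h2e hz hB hadd hGB Nat.prime_two (by rw [hF]) hT ?_
      rcases h4 with h4 | h4 | h4 | h4
      · exact absurd h4 hU0
      · exact Or.inr (Or.inl h4)
      · exact Or.inr (Or.inr h4)
      · exact Or.inl h4
    · rcases cent_or_dvd hp5 ht ht5 hz T hT (hTn _ hzM) with h3 | h3
      · exact h3
      · exfalso
        have h4 := h3.trans hTG
        have htd : t ∣ 1451520 := by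
          refine dvd_trans (dvd_trans (dvd_pow_self t ?_) (Dvd.intro _ rfl)) h4
          intro h0
          rw [orderOf_eq_zero_iff'] at h0
          have : Fact (Nat.Prime 5) := ⟨hp5⟩
          have h5 : ((t : ℕ) : ZMod 5) ≠ 0 := by
            intro h6
            rw [ZMod.natCast_eq_zero_iff] at h6
            exact ht5 ((Nat.prime_dvd_prime_iff_eq hp5 ht).1 h6).symm
          exact h0 4 (by norm_num) (ZMod.pow_card_sub_one_eq_one h5)
        by_cases ht3 : t = 3
        · subst ht3
          rw [ord_three_five] at h3 h4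
          have hpf3 : Fact (Nat.Prime 3) := ⟨Nat.prime_three⟩
          -- `|T| = 81`
          have hle : ∀ P : Subgroup (Matrix.symplecticGroup (Fin 3) F), IsPGroup 3 P → Nat.card P ≤ 81 := by
            intro P hP
            obtain ⟨k, hk⟩ := IsPGroup.iff_card.1 hP
            have h5 : Nat.card P ∣ 1451520 := hcG ▸ Subgroup.card_subgroup_dvd_card P
            rw [hk] at h5 ⊢
            have h6 : k ≤ 4 := by
              by_contra hcon
              have h7 : 3 ^ 5 ∣ 1451520 := (pow_dvd_pow 3 (by omega)).trans h5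
              norm_num at h7
            calc 3 ^ k ≤ 3 ^ 4 := Nat.pow_le_pow_right (by norm_num) h6
              _ = 81 := by norm_num
          have hT81 : 81 * Nat.card ↥(T ⊓ Subgroup.centralizer {y ^ 3}) ≤ Nat.card T := by
            have h81 : (3 : ℕ) ^ 4 = 81 := by norm_num
            rw [h81] at h3
            exact Nat.le_of_dvd Nat.card_pos h3
          have hTle := hle T hT
          have hc1 : 0 < Nat.card ↥(T ⊓ Subgroup.centralizer {y ^ 3}) := Nat.card_pos
          have hc : Nat.card ↥(T ⊓ Subgroup.centralizer {y ^ 3}) = 1 := by omega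
          -- `y ^ 5 ∈ T`
          have hwn : Subgroup.zpowers (y ^ 5) ≤ Subgroup.normalizer (T : Set (Matrix.symplecticGroup (Fin 3) F)) := by
            rw [Subgroup.zpowers_le, Subgroup.mem_normalizer_iff_map_conj_eq]
            refine Subgroup.eq_of_le_of_card_ge ?_
              (le_of_eq (Subgroup.card_map_of_injective (MulAut.conj (y ^ 5)).injective).symm)
            rintro _ ⟨v, hv, rfl⟩
            exact hTn _ hwM v hv
          have hP : IsPGroup 3 ↥(T ⊔ Subgroup.zpowers (y ^ 5)) := by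
            have h5 : IsPGroup 3 (Subgroup.zpowers (y ^ 5)) :=
              IsPGroup.of_card (n := 1) (by rw [Nat.card_zpowers, hw, pow_one])
            rw [sup_comm]
            exact h5.to_sup_of_normal_right' hT hwn
          have h5 : T = T ⊔ Subgroup.zpowers (y ^ 5) :=
            Subgroup.eq_of_le_of_card_ge le_sup_left ((hle _ hP).trans (by omega))
          have h6 : y ^ 5 ∈ T := by
            rw [h5]
            exact Subgroup.mem_sup_right (Subgroup.mem_zpowers _)
          have h7 : y ^ 5 ∈ Subgroup.centralizer {y ^ 3} :=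
            Subgroup.mem_centralizer_singleton_iff.2 (by rw [← pow_add, ← pow_add])
          have h7' : y ^ 5 ∈ T ⊓ Subgroup.centralizer {y ^ 3} := ⟨h6, h7⟩
          rw [Subgroup.card_eq_one.1 hc] at h7'
          have h8 : y ^ 5 = 1 := Subgroup.mem_bot.1 h7'
          rw [h8, orderOf_one] at hw
          omega
        · have h5 : t = 7 := by
            have h6 : t ∣ 2 ^ 9 * (3 ^ 4 * (5 * 7)) := by norm_num; exact htd
            rcases (Nat.Prime.dvd_mul ht).1 h6 with h7 | h7
            · exact absurd ((Nat.prime_dvd_prime_iff_eq ht Nat.prime_two).1 (ht.dvd_of_dvd_pow h7)) ht2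
            rcases (Nat.Prime.dvd_mul ht).1 h7 with h8 | h8
            · exact absurd ((Nat.prime_dvd_prime_iff_eq ht Nat.prime_three).1 (ht.dvd_of_dvd_pow h8)) ht3
            rcases (Nat.Prime.dvd_mul ht).1 h8 with h9 | h9
            · exact absurd ((Nat.prime_dvd_prime_iff_eq ht hp5).1 h9) ht5
            · exact (Nat.prime_dvd_prime_iff_eq ht (by norm_num)).1 h9
          subst h5
          rw [ord_seven_five] at h4
          have h6 : 7 ^ 4 ∣ 1451520 := (Dvd.intro _ rfl).trans h4
          norm_num at h6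
  -- transport
  have hker : (QuotientGroup.mk' (Subgroup.center (Matrix.symplecticGroup (Fin 3) F))).ker = ⊥ := by
    rw [QuotientGroup.ker_mk']
    exact Subgroup.card_eq_one.1 hcZ
  let e : Matrix.symplecticGroup (Fin 3) F ≃* Cfsg.PSp 3 F :=
    MulEquiv.ofBijective (QuotientGroup.mk' (Subgroup.center (Matrix.symplecticGroup (Fin 3) F)))
      ⟨(MonoidHom.ker_eq_bot_iff _).1 hker, QuotientGroup.mk'_surjective _⟩
  have hr : GRow (Cfsg.PSp 3 F) 5 (e y) (e (y ^ 3)) :=
    { hp := hp5
      h5 := le_rfl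
      ord := by rw [MulEquiv.orderOf_eq, hz]
      mem := by rw [map_pow]; exact Subgroup.npow_mem_zpowers _ 3
      su := hsu.congr e
      full := by rw [hcK]; norm_num
      out := by rw [hout]; norm_num }
  have hcent := cent_quot (G := Matrix.symplecticGroup (Fin 3) F) (p := 5) hp5 (by rw [hcZ]; norm_num) (c := 45)
    fun z hz => by
      have h3 := cent_le φ hφ hB hadd (RingHom.id F) (fun c x y => by
        rw [spB_sym 3 h2, hB.smul, spB_sym 3 h2 y]; rfl) hGB hp5 h5F h2e hz (Q := 4) (by rw [hord, hF]; norm_num)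
      have h4 := card_K1_le_nine hφ hp5 h5F h2e hz hF (hfr z hz)
      omega
  refine of_lt_g hna hr (c := 45) ?_ (fun H hH => (Cfsg.Agent.S2142.result hF 3 le_rfl).1 H hH) (by norm_num)
  have h3 := hcent (e (y ^ 3)) (by
    have := hr.ord
    exact this)
  rw [hcZ, mul_one] at h3
  exact h3

end

end Cfsg.Agent.H479.AS
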