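import Mathlib

/-!
# An element of order 15 of `Sp_6(2)` (helper479)
-/

set_option autoImplicit false

namespace Cfsg.Agent.H479.AS.SpSix

open Matrix

abbrev Mt (R : Type*) := Matrix (Fin 3 ⊕ Fin 3) (Fin 3 ⊕ Fin 3) R

def Y0 : Mt (ZMod 2) :=
  fromBlocks !![0, 0, 0; 0, 0, 0; 0, 1, 1] !![1, 0, 0; 0, 1, 1; 0, 1, 0] !![1, 0, 0; 0, 0, 1; 0, 0, 0]
    !![1, 0, 0; 0, 0, 0; 0, 1, 0]

def Y2 : Mt (ZMod 2) :=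
  fromBlocks !![1, 0, 0; 0, 0, 1; 0, 1, 0] !![1, 0, 0; 0, 1, 0; 0, 0, 1]
    !![1, 0, 0; 0, 1, 1; 0, 0, 1] !![0, 0, 0; 0, 1, 0; 0, 0, 0]

def Z0 : Mt (ZMod 2) :=
  fromBlocks !![1, 0, 0; 0, 1, 0; 0, 0, 0] !![0, 0, 0; 0, 1, 0; 0, 0, 1]
    !![0, 0, 0; 0, 1, 0; 0, 1, 1] !![1, 0, 0; 0, 0, 1; 0, 1, 0]

def Z2 : Mt (ZMod 2) :=
  fromBlocks !![1, 0, 0; 0, 0, 0; 0, 1, 1] !![0, 0, 0; 0, 1, 1; 0, 1, 0]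
    !![0, 0, 0; 0, 0, 1; 0, 0, 0] !![1, 0, 0; 0, 0, 0; 0, 1, 0]

def W0 : Mt (ZMod 2) :=
  fromBlocks !![1, 0, 0; 0, 1, 0; 0, 0, 1] !![1, 0, 0; 0, 0, 0; 0, 0, 0]
    !![1, 0, 0; 0, 0, 0; 0, 0, 0] !![0, 0, 0; 0, 1, 0; 0, 0, 1]

def N0 : Mt (ZMod 2) :=
  fromBlocks !![0, 0, 0; 0, 1, 0; 0, 1, 1] !![1, 0, 0; 0, 0, 1; 0, 1, 1]
    !![1, 0, 0; 0, 1, 1; 0, 1, 1] !![1, 0, 0; 0, 0, 1; 0, 0, 0]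

set_option maxRecDepth 10000

theorem yy : Y0 * Y0 = Y2 := by decide
theorem yyy : Y2 * Y0 = Z0 := by decide
theorem zz : Z0 * Z0 = Z2 := by decide
theorem zzzzz : Z2 * Z2 * Z0 = 1 := by decide
theorem zyy : Z0 * Y2 = W0 := by decide
theorem www : W0 * W0 * W0 = 1 := by decide
theorem z_ne : Z0 ≠ 1 := by decide
theorem w_ne : W0 ≠ 1 := by decide
theorem ny : N0 * (Y0 - 1) = 1 := by decide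
theorem symp : Y0 * J (Fin 3) (ZMod 2) * Y0ᵀ = J (Fin 3) (ZMod 2) := by decide

end Cfsg.Agent.H479.AS.SpSix
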